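import Cfsg.Agent.H54.WeylInvolution
import Cfsg.Agent.H52.RootCount

/-!
Involutions of a simply laced Weyl group: a descent that is not negated, two adjacent negated
fundamental roots, or the product of the reflections in an independent set of fundamental roots.
-/

set_option autoImplicit false
set_option linter.unusedSectionVars false

open Cfsg.Lie
open scoped Matrix

namespace H13.InvT

variable {D : ChevalleyDatum} (C : H54.Ctx D)

/-- A positive root. -/
abbrev Pos' (r : Fin D.nroots) : Prop := D.nroots / 2 ≤ r.val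

/-- The permutations of the Weyl group. -/
abbrev WG : Subgroup (Equiv.Perm (Fin D.nroots)) := Subgroup.closure (Set.range C.W.sigma)

/-- The number of positive roots made negative. -/
noncomputable def ninv (π : Equiv.Perm (Fin D.nroots)) : ℕ :=
  Nat.card {r : Fin D.nroots // Pos' r ∧ ¬ Pos' (π r)}

theorem sigma_mem (i : Fin D.rank) : C.W.sigma i ∈ WG C := Subgroup.subset_closure ⟨i, rfl⟩

theorem sigma_inv (i : Fin D.rank) : (C.W.sigma i)⁻¹ = C.W.sigma i :=
  H53.RootGroupSys.sigma_inv (C.axioms (F := ℚ)) i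

theorem simpleF_pos (i : Fin D.rank) : Pos' (C.simpleF i) := C.hC.simple_pos i.isLt

theorem sigma_simpleF (i : Fin D.rank) :
    C.W.sigma i (C.simpleF i) = C.W.negF (C.simpleF i) :=
  C.cvec_injective (by rw [C.cvec_sigma, C.cvec_negF, ← C.pr_simpleF, C.pr_self]; module)

theorem sigma_pos {i : Fin D.rank} {r : Fin D.nroots} (hr : Pos' r) (hne : r ≠ C.simpleF i) :
    Pos' (C.W.sigma i r) := by
  by_contra h
  apply hne
  rw [← C.simpleF_eq]
  exact H53.WeylData.neg_act C.W.valid i ((C.W.pos_eq r).2 hr) ((C.W.neg_iff _).2 h)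

theorem map_negF {π : Equiv.Perm (Fin D.nroots)} (hπ : π ∈ WG C) (r : Fin D.nroots) :
    π (C.W.negF r) = C.W.negF (π r) := by
  obtain ⟨L, rfl⟩ := C.exists_wperm hπ
  exact C.wperm_negF L r

theorem ninv_step {π : Equiv.Perm (Fin D.nroots)} (hπ : π ∈ WG C) {i : Fin D.rank}
    (hi : ¬ Pos' (π (C.simpleF i))) : ninv (π * C.W.sigma i) + 1 = ninv π := by
  rw [← C.simpleF_eq] at hi
  exact H52.invCard_step (C.axioms (F := ℚ)) hπ hi

theorem ninv_inv {π : Equiv.Perm (Fin D.nroots)} (hπ : π ∈ WG C) : ninv π⁻¹ = ninv π := by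
  have key : ∀ π : Equiv.Perm (Fin D.nroots), π ∈ WG C → ∀ r, Pos' r ∧ ¬ Pos' (π r) →
      Pos' (C.W.negF (π r)) ∧ ¬ Pos' (π⁻¹ (C.W.negF (π r))) := by
    rintro π hπ r ⟨h1, h2⟩
    refine ⟨(C.W.pos_negF _).2 h2, fun h => ?_⟩
    rw [map_negF C (inv_mem hπ), show π⁻¹ (π r) = r from π.symm_apply_apply r] at h
    exact (C.W.pos_negF _).1 h h1
  refine Nat.card_congr
    { toFun := fun r => ⟨C.W.negF (π⁻¹ r.1), by
        have h := key π⁻¹ (inv_mem hπ) r.1 r.2
        simpa using h⟩
      invFun := fun r => ⟨C.W.negF (π r.1), key π hπ r.1 r.2⟩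
      left_inv := fun r => Subtype.ext ?_
      right_inv := fun r => Subtype.ext ?_ }
  · show C.W.negF (π (C.W.negF (π⁻¹ r.1))) = r.1
    rw [map_negF C hπ, C.W.negF_negF]
    exact π.apply_symm_apply r.1
  · show C.W.negF (π⁻¹ (C.W.negF (π r.1))) = r.1
    rw [map_negF C (inv_mem hπ), C.W.negF_negF]
    exact π.symm_apply_apply r.1

/-- Conjugation by a fundamental reflection in a descent that is not negated. -/
theorem ninv_conj {π : Equiv.Perm (Fin D.nroots)} (hπ : π ∈ WG C) (h2 : π * π = 1)
    {i : Fin D.rank} (hi : ¬ Pos' (π (C.simpleF i)))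
    (hne : π (C.simpleF i) ≠ C.W.negF (C.simpleF i)) :
    ninv (C.W.sigma i * π * C.W.sigma i) < ninv π := by
  have hinv : π⁻¹ = π := inv_eq_of_mul_eq_one_right h2
  have hρ : π * C.W.sigma i ∈ WG C := mul_mem hπ (sigma_mem C i)
  have e : (π * C.W.sigma i)⁻¹ = C.W.sigma i * π := by rw [mul_inv_rev, sigma_inv, hinv]
  have hneg : ¬ Pos' ((C.W.sigma i * π) (C.simpleF i)) := by
    rw [Equiv.Perm.mul_apply]
    intro h
    have h' := sigma_pos C (i := i) ((C.W.pos_negF _).2 hi)
      (fun e' => hne (by
        conv_rhs => rw [← e']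
        rw [C.W.negF_negF]))
    rw [map_negF C (sigma_mem C i)] at h'
    exact (C.W.pos_negF _).1 h' h
  have h1 := ninv_step C hπ hi
  have h3 := ninv_step C (mul_mem (sigma_mem C i) hπ) hneg
  rw [← e] at h3
  rw [ninv_inv C hρ, e] at h3
  omega

/-- The reflection in a negated fundamental root lowers the count by one. -/
theorem ninv_refl {π : Equiv.Perm (Fin D.nroots)} (hπ : π ∈ WG C) (h2 : π * π = 1)
    {i : Fin D.rank} (hi : π (C.simpleF i) = C.W.negF (C.simpleF i)) :
    ninv (C.W.sigma i * π) < ninv π := by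
  have hinv : π⁻¹ = π := inv_eq_of_mul_eq_one_right h2
  have h1 := ninv_step C hπ (i := i) (by
    rw [hi]; exact fun h => (C.W.pos_negF _).1 h (simpleF_pos C i))
  rw [← ninv_inv C (mul_mem hπ (sigma_mem C i)), mul_inv_rev, sigma_inv, hinv] at h1
  omega

/-- The combinatorial properties of a simply laced diagram used by the reduction. -/
structure Laced : Prop where
  adj : ∀ i j : Fin D.rank, i ≠ j →
    D.cartan i.val (D.simple j.val) = 0 ∨ D.cartan i.val (D.simple j.val) = -1
  symm : ∀ i j : Fin D.rank, D.cartan i.val (D.simple j.val) = D.cartan j.val (D.simple i.val)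
  pick : ∀ J : Fin D.rank → Bool, (∃ i, J i = true) →
    (∀ i j, J i = true → J j = true → i ≠ j → D.cartan i.val (D.simple j.val) = 0) →
    ∃ i k, J i = true ∧ J k = false ∧ D.cartan i.val (D.simple k.val) ≠ 0 ∧
      ∀ j, J j = true → j ≠ i → D.cartan j.val (D.simple k.val) = 0
  supp : ∀ r : Fin D.nroots, Pos' r → (∃ i, r = C.simpleF i) ∨
    ∃ a b : Fin D.rank, a ≠ b ∧ D.cartan a.val (D.simple b.val) ≠ 0 ∧
      0 < C.T.co r.val a.val ∧ 0 < C.T.co r.val b.val

variable {C}

theorem wperm_fixes {L : List (Fin D.rank)} {i : Fin D.rank}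
    (h : ∀ c ∈ L, D.cartan c.val (D.simple i.val) = 0) :
    C.wperm L (C.simpleF i) = C.simpleF i := by
  induction L with
  | nil => rfl
  | cons a L ih =>
    rw [H54.Ctx.wperm_cons, Equiv.Perm.mul_apply,
      ih fun c hc => h c (List.mem_cons_of_mem _ hc)]
    refine C.cvec_injective ?_
    rw [C.cvec_sigma]
    show _ - D.cartan a.val (D.simple i.val) • _ = _
    rw [h a List.mem_cons_self, zero_smul, sub_zero]

/-- The images of the fundamental roots under commuting fundamental reflections. -/
theorem cvec_wperm {L : List (Fin D.rank)} (hnd : L.Nodup)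
    (hind : ∀ a ∈ L, ∀ b ∈ L, a ≠ b → D.cartan a.val (D.simple b.val) = 0) (k c : Fin D.rank) :
    C.cvec (C.wperm L (C.simpleF k)) c =
      (if c = k then 1 else 0) - if c ∈ L then D.cartan c.val (D.simple k.val) else 0 := by
  induction L generalizing c with
  | nil =>
    rw [H54.Ctx.wperm_nil, Equiv.Perm.one_apply, C.cvec_simpleF, Pi.single_apply]
    simp
  | cons a L ih =>
    have hnd' := List.nodup_cons.1 hnd
    have hi := ih hnd'.2 fun x hx y hy => hind x (List.mem_cons_of_mem _ hx) y
      (List.mem_cons_of_mem _ hy)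
    have hfix : C.wperm L (C.simpleF a) = C.simpleF a := wperm_fixes fun x hx =>
      hind x (List.mem_cons_of_mem _ hx) a List.mem_cons_self fun e => hnd'.1 (e ▸ hx)
    have hpair : D.cartan a.val (C.wperm L (C.simpleF k)).val = D.cartan a.val (D.simple k.val) := by
      rw [← C.pr_simpleF, ← hfix, C.pr_wperm, C.pr_simpleF]
      rfl
    rw [H54.Ctx.wperm_cons, Equiv.Perm.mul_apply, C.cvec_sigma, Pi.sub_apply, Pi.smul_apply,
      hpair, hi, C.cvec_simpleF, Pi.single_apply, smul_eq_mul]
    by_cases hca : c = a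
    · subst hca
      simp [hnd'.1]
    · simp [hca]

variable (C)

/-- An involution all of whose descents are negated, the latter pairwise orthogonal, sends a
fundamental root next to exactly one of them to its image under that reflection. -/
theorem exists_pair (hD : Laced C) {π : Equiv.Perm (Fin D.nroots)} (hπ : π ∈ WG C)
    (h2 : π * π = 1) (hne : π ≠ 1)
    (hall : ∀ i, ¬ Pos' (π (C.simpleF i)) → π (C.simpleF i) = C.W.negF (C.simpleF i))
    (hind : ∀ i j, ¬ Pos' (π (C.simpleF i)) → ¬ Pos' (π (C.simpleF j)) → i ≠ j →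
      D.cartan i.val (D.simple j.val) = 0) :
    ∃ i k : Fin D.rank, i ≠ k ∧ D.cartan i.val (D.simple k.val) = -1 ∧
      π (C.simpleF i) = C.W.negF (C.simpleF i) ∧
      π (C.simpleF k) = C.W.sigma i (C.simpleF k) := by
  classical
  let J : Fin D.rank → Bool := fun i => decide (¬ Pos' (π (C.simpleF i)))
  have hJ : ∀ i, J i = true ↔ ¬ Pos' (π (C.simpleF i)) := fun i => by simp [J]
  set l := (Finset.univ.filter fun i => J i = true).toList with hl
  have hmem : ∀ i, i ∈ l ↔ J i = true := fun i => by simp [hl]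
  have hnd : l.Nodup := Finset.nodup_toList _
  have hlind : ∀ a ∈ l, ∀ b ∈ l, a ≠ b → D.cartan a.val (D.simple b.val) = 0 := fun a ha b hb =>
    hind a b ((hJ a).1 ((hmem a).1 ha)) ((hJ b).1 ((hmem b).1 hb))
  obtain ⟨L, hL⟩ := C.exists_wperm hπ
  set P := C.wperm l
  have hP : ∀ k c, C.cvec (P (C.simpleF k)) c =
      (if c = k then 1 else 0) - if J c = true then D.cartan c.val (D.simple k.val) else 0 := by
    intro k c
    rw [cvec_wperm hnd hlind]
    simp [hmem]
  have hπP : π * P = 1 := by
    refine C.W.fix (mul_mem hπ (C.wperm_mem (F := ℚ) l)) ?_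
    by_contra hc
    push Not at hc
    obtain ⟨r, hr, hr'⟩ := hc
    obtain ⟨k, hk⟩ := C.W.descent (mul_mem hπ (C.wperm_mem (F := ℚ) l)) ⟨r, hr, not_le.2 hr'⟩
    apply hk
    rw [C.simpleF_eq, Equiv.Perm.mul_apply]
    by_cases hjk : J k = true
    · have e : P (C.simpleF k) = C.W.negF (C.simpleF k) := by
        refine C.cvec_injective (funext fun c => ?_)
        rw [hP, C.cvec_negF, Pi.neg_apply, C.cvec_simpleF, Pi.single_apply]
        by_cases hck : c = k
        · subst hck
          have h := C.pr_self (C.simpleF c)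
          rw [C.pr_simpleF] at h
          change D.cartan c.val (D.simple c.val) = 2 at h
          simp [hjk, h]
        · by_cases hjc : J c = true
          · simp [hck, hjc, hind c k ((hJ c).1 hjc) ((hJ k).1 hjk) hck]
          · simp [hck, hjc]
      rw [e, map_negF C hπ, hall k ((hJ k).1 hjk), C.W.negF_negF]
      exact simpleF_pos C k
    · have hkp : Pos' (π (C.simpleF k)) := by simpa [J] using hjk
      obtain ⟨c, hcJ, hc⟩ : ∃ c, J c = false ∧ 0 < C.T.co (π (C.simpleF k)).val c.val := by
        rcases hD.supp _ hkp with ⟨j, hj⟩ | ⟨a, b, hab, hadj, ha, hb⟩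
        · refine ⟨j, ?_, ?_⟩
          · by_contra hjJ
            rw [Bool.not_eq_false, hJ] at hjJ
            have h := congrArg π hj
            rw [← Equiv.Perm.mul_apply, h2, Equiv.Perm.one_apply, hall j hjJ] at h
            exact (C.W.pos_negF _).1 (h ▸ simpleF_pos C k) (simpleF_pos C j)
          · rw [hj]
            show 0 < C.T.co (D.simple j.val) j.val
            rw [C.hC.co_simple j.isLt j.isLt, if_pos rfl]
            exact one_pos
        · by_cases haJ : J a = true
          · refine ⟨b, ?_, hb⟩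
            by_contra hbJ
            rw [Bool.not_eq_false] at hbJ
            exact hadj (hind a b ((hJ a).1 haJ) ((hJ b).1 hbJ) hab)
          · exact ⟨a, by simpa using haJ, ha⟩
      have hcoord : C.cvec (π (P (C.simpleF k))) c = C.cvec (π (C.simpleF k)) c := by
        have hπj : ∀ j, J j = true → π (C.simpleF j) = C.W.negF (C.simpleF j) :=
          fun j hj => hall j ((hJ j).1 hj)
        subst hL
        rw [← C.wmat_mulVec L (P _)]
        have hdec : C.cvec (P (C.simpleF k)) = C.cvec (C.simpleF k) +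
            ∑ j, (if J j = true then - D.cartan j.val (D.simple k.val) else 0) •
              C.cvec (C.simpleF j) := by
          funext b
          rw [hP, Pi.add_apply, Finset.sum_apply, C.cvec_simpleF, Pi.single_apply,
            Finset.sum_eq_single b]
          · rw [Pi.smul_apply, C.cvec_simpleF, Pi.single_eq_same, smul_eq_mul, mul_one]
            split <;> split <;> ring
          · intro j _ hj
            rw [Pi.smul_apply, C.cvec_simpleF, Pi.single_eq_of_ne (Ne.symm hj), smul_zero]
          · simp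
        rw [hdec, Matrix.mulVec_add, Matrix.mulVec_sum, C.wmat_mulVec, Pi.add_apply,
          Finset.sum_apply, Finset.sum_eq_zero, add_zero]
        intro j _
        by_cases hj : J j = true
        · rw [if_pos hj, Matrix.mulVec_smul, C.wmat_mulVec, hπj j hj, C.cvec_negF,
            C.cvec_simpleF, Pi.smul_apply, Pi.neg_apply,
            Pi.single_eq_of_ne (fun e => by rw [← e, hcJ] at hj; exact Bool.false_ne_true hj)]
          simp
        · simp [hj]
      by_contra hn
      have hpos := ((C.W.pos_negF _).2 hn)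
      have h := C.hC.co_nonneg hpos (C.W.negF (π (P (C.simpleF k)))).isLt c.isLt
      change 0 ≤ C.cvec (C.W.negF _) c at h
      rw [C.cvec_negF, Pi.neg_apply, hcoord] at h
      change 0 ≤ - C.T.co _ _ at h
      omega
  have hπ' : π = P := by
    have : π⁻¹ = π := inv_eq_of_mul_eq_one_right h2
    rw [← this]; exact inv_eq_of_mul_eq_one_right hπP
  have hJne : ∃ i, J i = true := by
    by_contra hc
    push Not at hc
    apply hne
    refine C.W.fix hπ ?_
    by_contra h
    push Not at h
    obtain ⟨r, hr, hr'⟩ := h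
    obtain ⟨k, hk⟩ := C.W.descent hπ ⟨r, hr, not_le.2 hr'⟩
    rw [C.simpleF_eq] at hk
    exact hc k ((hJ k).2 hk)
  obtain ⟨i, k, hi, hk, hik, honly⟩ := hD.pick J hJne fun a b ha hb =>
    hind a b ((hJ a).1 ha) ((hJ b).1 hb)
  have hne' : i ≠ k := by rintro rfl; rw [hi] at hk; exact Bool.noConfusion hk
  have hA : D.cartan i.val (D.simple k.val) = -1 := (hD.adj i k hne').resolve_left hik
  refine ⟨i, k, hne', hA, hall i ((hJ i).1 hi), C.cvec_injective (funext fun c => ?_)⟩
  rw [hπ', hP, C.cvec_sigma, Pi.sub_apply, Pi.smul_apply, C.cvec_simpleF, C.cvec_simpleF,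
    Pi.single_apply, Pi.single_apply, smul_eq_mul]
  show _ = _ - D.cartan i.val (D.simple k.val) * _
  by_cases hci : c = i
  · subst hci; simp [hi]
  · by_cases hcJ : J c = true
    · simp [hci, hcJ, honly c hcJ hci]
    · simp [hci, hcJ]

end H13.InvT
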