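import Cfsg.Agent.H13.InvT.Lin
import Cfsg.Agent.H13.InvT.Weyl
import Cfsg.Agent.H13.F4I.Rank
import Cfsg.Agent.H13.F4I.ToN
import Cfsg.Agent.H54.ChevSylow

/-!
In odd characteristic every involution of a simply laced Chevalley group is conjugate into the
torus.
-/

set_option autoImplicit false
set_option linter.unusedSectionVars false
set_option maxRecDepth 10000

open Cfsg.Lie
open H53.RootGroupSys

namespace H13.InvT

variable {D : ChevalleyDatum} (C : H54.Ctx D)

/-- The commutator relations between a fundamental root, an adjacent one and their sum. -/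
def CommOK : Prop :=
  ∀ i k : Fin D.rank, D.cartan i.val (D.simple k.val) = -1 → ∃ b : Bool,
    let r := D.simple i.val
    let u := D.simple k.val
    let s := D.reflectRoot i.val u
    let m : ℤ := if b then 1 else -1
    s ≠ r ∧ s ≠ D.neg r ∧ u ≠ r ∧ u ≠ D.neg r ∧
      D.commTerms r u = [(s, m, 1, 1)] ∧ D.commTerms (D.neg r) s = [(u, m, 1, 1)] ∧
      D.commTerms r s = [] ∧ D.commTerms (D.neg r) u = []

variable {F : Type*} [Field F] [Fintype F]

/-- An element of `N` inverting two opposite root subgroups with square coefficient. -/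
theorem step_square (h2 : (2 : F) ≠ 0) {m : ↥(D.group F)}
    (hmN : m ∈ (H53.grpSys C.W F).N) (hm1 : m * m = 1)
    {π : Equiv.Perm (Fin D.nroots)} (hπ : Lin (m : GL D.Idx F) π) (i : Fin D.rank) {s : F}
    (h1 : ∀ u : F, (m : GL D.Idx F) * H52.rt D (D.simple i.val) u * (m : GL D.Idx F)⁻¹ =
      H52.rt D (D.neg (D.simple i.val)) (s ^ 2 * u)) (hs : s ≠ 0) :
    ∃ y m' : ↥(D.group F), m' ∈ (H53.grpSys C.W F).N ∧ m' * m' = 1 ∧
      y * m * y⁻¹ = m' ∧ Lin (m' : GL D.Idx F) (C.W.sigma i * π) := by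
  set p := D.simple i.val
  have hpn : p < D.nroots := C.hC.simple_lt i.isLt
  have h2' : ∀ u : F, (m : GL D.Idx F) * H52.rt D (D.neg p) u *
      (m : GL D.Idx F)⁻¹ = H52.rt D p (u / s ^ 2) := by
    intro u
    have hmm : (m : GL D.Idx F) * m = 1 := congrArg Subtype.val hm1
    have h := h1 (u / s ^ 2)
    rw [mul_div_cancel₀ u (pow_ne_zero 2 hs)] at h
    rw [← h, show (m : GL D.Idx F) * ((m : GL D.Idx F) * H52.rt D p (u / s ^ 2) *
      (m : GL D.Idx F)⁻¹) * (m : GL D.Idx F)⁻¹ = ((m : GL D.Idx F) * m) *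
      H52.rt D p (u / s ^ 2) * ((m : GL D.Idx F) * m)⁻¹ by group, hmm]
    simp
  obtain ⟨y, hy, he⟩ := (F4I.rank_twist C hpn (pow_ne_zero 2 hs) h1 h2').2 s h2 rfl
  have hn : H52.nElt D p (1 / s) ∈ D.monomialSubgroup F := by
    simpa using nElt_monomial C (F := F) hpn (Units.mk0 (1 / s) (one_div_ne_zero hs))
  set m' : ↥(D.group F) := ⟨y, hy⟩ * m * (⟨y, hy⟩ : ↥(D.group F))⁻¹
  have hcoe : (m' : GL D.Idx F) = H52.nElt D p (1 / s) * m := he
  refine ⟨⟨y, hy⟩, m', ?_, ?_, rfl, ?_⟩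
  · rw [mem_N_iff C, hcoe]
    exact mul_mem hn ((mem_N_iff C m).1 hmN)
  · simp only [m']
    rw [show ∀ a b : ↥(D.group F), a * b * a⁻¹ * (a * b * a⁻¹) = a * (b * b) * a⁻¹ by
      intros; group, hm1, mul_one, mul_inv_cancel]
  · exact hcoe ▸ lin_mul (lin_nElt_simple C i (one_div_ne_zero hs)) hπ

/-- One step of the reduction. -/
theorem step (hD : Laced C) (hK : CommOK (D := D)) (h2 : (2 : F) ≠ 0) {m : ↥(D.group F)}
    (hmN : m ∈ (H53.grpSys C.W F).N) (hm1 : m * m = 1)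
    {π : Equiv.Perm (Fin D.nroots)} (hW : π ∈ WG C) (hπ : Lin (m : GL D.Idx F) π) (hne : π ≠ 1) :
    ∃ y m' : ↥(D.group F), m' ∈ (H53.grpSys C.W F).N ∧ m' * m' = 1 ∧ y * m * y⁻¹ = m' ∧
      ∃ π', π' ∈ WG C ∧ Lin (m' : GL D.Idx F) π' ∧ ninv π' < ninv π := by
  have hmm : (m : GL D.Idx F) * m = 1 := congrArg Subtype.val hm1
  have hππ : π * π = 1 := lin_unique C (lin_mul hπ hπ) (hmm ▸ lin_one)
  by_cases hA : ∃ i, ¬ Pos' (π (C.simpleF i)) ∧ π (C.simpleF i) ≠ C.W.negF (C.simpleF i)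
  · obtain ⟨i, hi, hine⟩ := hA
    set S := H53.grpSys C.W F
    refine ⟨S.n i, S.n i * m * (S.n i)⁻¹, mul_mem (mul_mem (n_mem_N i) hmN) (inv_mem (n_mem_N i)),
      ?_, rfl, C.W.sigma i * π * C.W.sigma i, mul_mem (mul_mem (sigma_mem C i) hW) (sigma_mem C i),
      ?_, ninv_conj C hW hππ hi hine⟩
    · rw [show ∀ a b : ↥(D.group F), a * b * a⁻¹ * (a * b * a⁻¹) = a * (b * b) * a⁻¹ by
        intros; group, hm1, mul_one, mul_inv_cancel]
    · have hn : Lin ((S.n i : ↥(D.group F)) : GL D.Idx F) (C.W.sigma i) :=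
        lin_of_acts C (n_mem_N i) (acts_n C.axioms i)
      have := lin_mul (lin_mul hn hπ) (lin_inv hn)
      rw [sigma_inv] at this
      simpa using this
  replace hA : ∀ i, ¬ Pos' (π (C.simpleF i)) → π (C.simpleF i) = C.W.negF (C.simpleF i) :=
    fun i hi => by_contra fun h => hA ⟨i, hi, h⟩
  have hnegc : ∀ i, π (C.simpleF i) = C.W.negF (C.simpleF i) → ∃ c : Fˣ, ∀ u : F,
      (m : GL D.Idx F) * H52.rt D (D.simple i.val) u * (m : GL D.Idx F)⁻¹ =
        H52.rt D (D.neg (D.simple i.val)) ((c : F) * u) := by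
    intro i hi
    obtain ⟨c, hc⟩ := hπ (C.simpleF i)
    exact ⟨c, fun u => by rw [show D.simple i.val = (C.simpleF i).val from rfl, hc, hi]; rfl⟩
  by_cases hB : ∀ i j, ¬ Pos' (π (C.simpleF i)) → ¬ Pos' (π (C.simpleF j)) → i ≠ j →
      D.cartan i.val (D.simple j.val) = 0
  · obtain ⟨i, k, hik, hA', hi, hk⟩ := exists_pair C hD hW hππ hne hA hB
    obtain ⟨c, hc⟩ := hnegc i hi
    obtain ⟨b, hsr, hsn, hur, hun', hw1, hw2, hw3, hw4⟩ := hK i k hA'
    set r := D.simple i.val with hr_def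
    set u := D.simple k.val with hu_def
    set s := D.reflectRoot i.val u with hs_def
    set σ : ℤ := if b = true then 1 else -1 with hσdef
    have hσ : (σ : F) ≠ 0 := by rw [hσdef]; split <;> simp
    have hrn : r < D.nroots := C.hC.simple_lt i.isLt
    have hun : u < D.nroots := C.hC.simple_lt k.isLt
    have hsn' : s < D.nroots := C.hC.reflect_lt i.isLt hun
    have hks : (C.W.sigma i (C.simpleF k)).val = s := C.sigma_val i _
    obtain ⟨du, hdu⟩ := hπ (C.simpleF k)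
    obtain ⟨ds, hds⟩ := hπ (C.W.sigma i (C.simpleF k))
    rw [hk, hks, show (C.simpleF k).val = u from rfl] at hdu
    rw [show π (C.W.sigma i (C.simpleF k)) = C.simpleF k by
      rw [← hk, ← Equiv.Perm.mul_apply, hππ, Equiv.Perm.one_apply], hks,
      show (C.simpleF k).val = u from rfl] at hds
    have hde : (ds : F) * du = 1 := by
      have h1 := hdu ((ds : F) * 1)
      rw [← hds, show (m : GL D.Idx F) * ((m : GL D.Idx F) * H52.rt D s (1 : F) *
        (m : GL D.Idx F)⁻¹) * (m : GL D.Idx F)⁻¹ = ((m : GL D.Idx F) * m) *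
        H52.rt D s (1 : F) * ((m : GL D.Idx F) * m)⁻¹ by group, hmm, one_mul, inv_one,
        mul_one] at h1
      have h2 := C.hC.rt_injective hsn' h1
      rw [mul_one] at h2
      linear_combination -h2
    have hnr : D.neg r < D.nroots := C.hC.neg_lt hrn
    have hnn : D.neg (D.neg r) = r := C.hC.neg_neg hrn
    obtain ⟨e1, he1, h1⟩ := conj_step C (F := F) hrn hun hsn' hur hun' hsr hsn hw1 hw3 1 1
    obtain ⟨e2, he2, h2c⟩ := conj_step C (F := F) hnr hsn' hun hsn (by rw [hnn]; exact hsr) hun'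
      (by rw [hnn]; exact hur) hw2 hw4 (c : F) (du : F)
    have h3 := congrArg (MulAut.conj (m : GL D.Idx F)) h1
    simp only [map_mul, map_inv, MulAut.conj_apply] at h3
    rw [hc, hdu, hds, mul_one, mul_one] at h3
    rw [h2c] at h3
    have h4 := C.hC.rt_injective hun (mul_left_cancel h3)
    have he : (ds : F) = c * du := by
      have hee : e1 = (σ : F) := by rw [he1, hσdef]; ring
      have hee2 : e2 = (σ : F) := by rw [he2, hσdef]; ring
      rw [hee, hee2] at h4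
      apply mul_left_cancel₀ hσ
      linear_combination -h4
    have hcsq : (c : F) = (ds : F) ^ 2 := by
      linear_combination (c : F) * (-hde) + (ds : F) * (-he)
    obtain ⟨y, m', hN', hm', he', hlin⟩ :=
      step_square C h2 hmN hm1 hπ i (fun v => by rw [← hcsq]; exact hc v) ds.ne_zero
    exact ⟨y, m', hN', hm', he', _, mul_mem (sigma_mem C i) hW, hlin, ninv_refl C hW hππ hi⟩
  · obtain ⟨i, j, hi, hj, hij, hadj⟩ : ∃ i j, ¬ Pos' (π (C.simpleF i)) ∧
        ¬ Pos' (π (C.simpleF j)) ∧ i ≠ j ∧ D.cartan i.val (D.simple j.val) ≠ 0 := by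
      by_contra hc
      exact hB fun i j hi hj hij => by_contra fun h => hc ⟨i, j, hi, hj, hij, h⟩
    obtain ⟨cr, hcr⟩ := hnegc i (hA i hi)
    obtain ⟨cs, hcs⟩ := hnegc j (hA j hj)
    set r := D.simple i.val
    set s := D.simple j.val
    have hrn : r < D.nroots := C.hC.simple_lt i.isLt
    have hsn : s < D.nroots := C.hC.simple_lt j.isLt
    have hr2 : ∀ u : F, (m : GL D.Idx F) * H52.rt D (D.neg r) u *
        (m : GL D.Idx F)⁻¹ = H52.rt D r (u / cr) := by
      intro u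
      have h := hcr (u / (cr : F))
      rw [mul_div_cancel₀ u cr.ne_zero] at h
      rw [← h, show (m : GL D.Idx F) * ((m : GL D.Idx F) * H52.rt D r (u / cr) *
        (m : GL D.Idx F)⁻¹) * (m : GL D.Idx F)⁻¹ = ((m : GL D.Idx F) * m) *
        H52.rt D r (u / cr) * ((m : GL D.Idx F) * m)⁻¹ by group, hmm]
      simp
    obtain ⟨y, hy, he⟩ := (F4I.rank_twist C hrn cr.ne_zero hcr hr2).1 (cs : F) cs.ne_zero
      (exists_sq_sub h2 _ _ cr.ne_zero)
    set m1 : ↥(D.group F) := ⟨y, hy⟩ * m * (⟨y, hy⟩ : ↥(D.group F))⁻¹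
    have hcoe : (m1 : GL D.Idx F) = H52.hElt D r (cs : F) * m := he
    have hπ1 : Lin (m1 : GL D.Idx F) π := by
      rw [hcoe, ← one_mul π]
      exact lin_mul (fun a => ⟨_, fun u => hElt_conj C hrn a.isLt cs u⟩) hπ
    have hN1 : m1 ∈ (H53.grpSys C.W F).N := by
      rw [mem_N_iff C, hcoe]; exact mul_mem (hElt_monomial C hrn cs) ((mem_N_iff C m).1 hmN)
    have hm11 : m1 * m1 = 1 := by
      simp only [m1]
      rw [show ∀ a b : ↥(D.group F), a * b * a⁻¹ * (a * b * a⁻¹) = a * (b * b) * a⁻¹ by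
        intros; group, hm1, mul_one, mul_inv_cancel]
    have hpair : H52.pairInt D r (D.neg s) = 1 := by
      have h := C.pr_negF_right (C.simpleF i) (C.simpleF j)
      rw [C.pr_simpleF i (C.simpleF j)] at h
      change H52.pairInt D r (D.neg s) = - D.cartan i.val s at h
      rw [h, (hD.adj i j hij).resolve_left hadj, neg_neg]
    have h1 : ∀ u : F, (m1 : GL D.Idx F) * H52.rt D s u * (m1 : GL D.Idx F)⁻¹ =
        H52.rt D (D.neg s) ((cs : F) ^ 2 * u) := by
      intro u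
      rw [hcoe, show H52.hElt D r (cs : F) * (m : GL D.Idx F) * H52.rt D s u *
        (H52.hElt D r (cs : F) * (m : GL D.Idx F))⁻¹ = H52.hElt D r (cs : F) *
        ((m : GL D.Idx F) * H52.rt D s u * (m : GL D.Idx F)⁻¹) *
        (H52.hElt D r (cs : F))⁻¹ by group, hcs, hElt_conj C hrn (C.hC.neg_lt hsn) cs, hpair,
        zpow_one, pow_two, mul_assoc]
    obtain ⟨y', m', hN', hm', he', hlin⟩ := step_square C h2 hN1 hm11 hπ1 j h1 cs.ne_zero
    refine ⟨y' * ⟨y, hy⟩, m', hN', hm', ?_, _, mul_mem (sigma_mem C j) hW, hlin,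
      ninv_refl C hW hππ (hA j hj)⟩
    rw [← he']; simp only [m1]; group

/-- Every involution is conjugate into the torus. -/
theorem exists_conj_H (hD : Laced C) (hK : CommOK (D := D)) (h2 : (2 : F) ≠ 0)
    {u : ↥(D.group F)} (hu : u * u = 1) :
    ∃ y : ↥(D.group F), y * u * y⁻¹ ∈ (H53.grpSys C.W F).H := by
  have hUH : (H53.grpSys C.W F).Uplus ⊓ (H53.grpSys C.W F).H = ⊥ := by
    rw [eq_bot_iff]
    intro g hg
    have h : (g : GL D.Idx F) ∈ D.posUnipotent F ⊓ D.diagonalSubgroup F :=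
      Subgroup.mem_inf.2 ⟨(H53.mem_pos_iff C.hC C.W g).2 hg.1,
        (H53.mem_diag_iff C.hC C.W g).2 hg.2⟩
    rw [C.hC.pos_inf_diag, Subgroup.mem_bot] at h
    exact Subgroup.mem_bot.2 (Subtype.ext h)
  have hodd : ∀ p ∈ (H53.grpSys C.W F).Uplus, ∃ k : ℕ, p ^ (2 * k + 1) = 1 := by
    intro p hp
    have : Fact (ringChar F).Prime := ⟨CharP.char_is_prime F (ringChar F)⟩
    obtain ⟨n, hn⟩ := C.isPGroup_pos (F := F) (ringChar F)
      ⟨(p : GL D.Idx F), (H53.mem_pos_iff C.hC C.W p).2 hp⟩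
    have hne : ringChar F ≠ 2 := fun h => h2 (by
      have : CharP F 2 := ringChar.of_eq h
      exact CharTwo.two_eq_zero)
    obtain ⟨k, hk⟩ := ((Fact.out : (ringChar F).Prime).odd_of_ne_two hne).pow (n := n)
    exact ⟨k, Subtype.ext (by rw [SubmonoidClass.coe_pow, ← hk]; exact congrArg Subtype.val hn)⟩
  obtain ⟨y, m, hmN, π, hπ, hm1, -, rfl⟩ := F4I.exists_conj_N C.axioms C.sep hUH hodd hu
  suffices h : ∀ n, ∀ m : ↥(D.group F), m ∈ (H53.grpSys C.W F).N → m * m = 1 →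
      ∀ π, π ∈ WG C → Lin (m : GL D.Idx F) π → ninv π = n →
      ∃ z, z * m * z⁻¹ ∈ (H53.grpSys C.W F).H by
    obtain ⟨z, hz⟩ := h _ _ hmN hm1 π hπ.1 (lin_of_acts C hmN hπ) rfl
    exact ⟨z * y, by simpa [mul_assoc] using hz⟩
  intro n
  induction n using Nat.strong_induction_on with
  | _ n ih =>
    intro m hmN hm1 π hW hπ hn
    by_cases hone : π = 1
    · subst hone
      refine ⟨1, ?_⟩
      obtain ⟨π', hπ'⟩ := exists_acts C.axioms hmN
      obtain rfl := lin_unique C (lin_of_acts C hmN hπ') hπ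
      simpa using mem_H_of_acts_one C.axioms C.sep hmN hπ'
    · obtain ⟨y', m', hN', hm', he, π', hW', hπ', hlt⟩ := step C hD hK h2 hmN hm1 hW hπ hone
      obtain ⟨z, hz⟩ := ih _ (hn ▸ hlt) m' hN' hm' π' hW' hπ' rfl
      exact ⟨z * y', by rw [← he] at hz; simpa [mul_assoc] using hz⟩

end H13.InvT
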