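import Cfsg.Agent.H13.InvT.Lin
import Cfsg.Agent.H13.InvT.Weyl
import Cfsg.Agent.H52.TorusCard
import Cfsg.Agent.H52.Order

/-!
The sign vectors of the torus of an arbitrary Chevalley datum and their conjugation.
-/

set_option autoImplicit false
set_option linter.unusedSectionVars false
set_option maxRecDepth 10000

open Cfsg.Lie
open H53.RootGroupSys
open scoped Matrix

namespace H13.InvT

variable {D : ChevalleyDatum}

/-- The value of a sign vector at a root. -/
def sS (D : ChevalleyDatum) (v r : ℕ) : ℤ :=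
  ∑ i : Fin D.rank, ((v / 2 ^ i.val % 2 : ℕ) : ℤ) * D.cartan i.val r

/-- The sign vector takes an even value at the root. -/
def ev (D : ChevalleyDatum) (v r : ℕ) : Bool := decide (sS D v r % 2 = 0)

theorem ev_iff (v r : ℕ) : ev D v r = true ↔ ((sS D v r : ℤ) : ZMod 2) = 0 := by
  rw [ev, decide_eq_true_eq, ZMod.intCast_zmod_eq_zero_iff_dvd]
  omega

theorem ev_congr {v r v' r' : ℕ} :
    ev D v r = ev D v' r' ↔ ((sS D v r : ℤ) : ZMod 2) = ((sS D v' r' : ℤ) : ZMod 2) := by
  have h : ∀ a b : ZMod 2, ((a = 0) ↔ (b = 0)) ↔ a = b := by decide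
  rw [Bool.eq_iff_iff, ev_iff, ev_iff, h]

variable (C : H54.Ctx D)

theorem sS_eq (v : ℕ) (r : Fin D.nroots) :
    sS D v r.val = ∑ m, C.cvec r m * sS D v (D.simple m.val) := by
  simp only [sS, Finset.mul_sum]
  rw [Finset.sum_comm]
  refine Finset.sum_congr rfl fun i _ => ?_
  rw [C.hC.cartan_eq r.isLt i.isLt, Finset.sum_range, Finset.mul_sum]
  exact Finset.sum_congr rfl fun m _ => by show _ = C.T.co r.val m.val * _; ring

/-- Compatibility with a permutation of the Weyl group is tested on the fundamental roots. -/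
theorem ev_ext {π : Equiv.Perm (Fin D.nroots)} (hπ : π ∈ WG C) {v v' : ℕ}
    (h : ∀ k, ev D v' (π (C.simpleF k)).val = ev D v (D.simple k.val)) (r : Fin D.nroots) :
    ev D v' (π r).val = ev D v r.val := by
  obtain ⟨L, rfl⟩ := C.exists_wperm hπ
  rw [ev_congr]
  have hlin : sS D v' (C.wperm L r).val =
      ∑ m, C.cvec r m * sS D v' (C.wperm L (C.simpleF m)).val := by
    rw [sS_eq C, ← C.wmat_mulVec]
    simp only [sS_eq C v' (C.wperm L _), ← C.wmat_mulVec L (C.simpleF _), C.cvec_simpleF,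
      Finset.mul_sum, Matrix.mulVec, dotProduct, Finset.sum_mul, Pi.single_apply]
    rw [Finset.sum_comm]
    refine Finset.sum_congr rfl fun m _ => Finset.sum_congr rfl fun a _ => ?_
    simp only [mul_ite, mul_one, mul_zero, Finset.sum_ite_eq', Finset.mem_univ, if_true, ite_mul,
      zero_mul]
    ring
  rw [hlin, sS_eq C v r]
  push_cast
  exact Finset.sum_congr rfl fun m _ => by rw [ev_congr.1 (h m)]

/-- Permutations of the Weyl group agreeing on the fundamental roots are equal. -/
theorem perm_ext {π π' : Equiv.Perm (Fin D.nroots)} (hπ : π ∈ WG C) (hπ' : π' ∈ WG C)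
    (h : ∀ k, π (C.simpleF k) = π' (C.simpleF k)) : π = π' := by
  obtain ⟨L, rfl⟩ := C.exists_wperm hπ
  obtain ⟨L', rfl⟩ := C.exists_wperm hπ'
  have he : H54.Ctx.wmat D L = H54.Ctx.wmat D L' :=
    C.mat_ext fun b => by rw [C.wmat_mulVec, C.wmat_mulVec, h]
  exact Equiv.ext fun r => C.cvec_injective (by rw [← C.wmat_mulVec, ← C.wmat_mulVec, he])

variable {F : Type*} [Field F]

/-- The value of torus parameters at a root. -/
def chi (c : Fin D.rank → Fˣ) (r : ℕ) : Fˣ :=
  ∏ i : Fin D.rank, c i ^ D.cartan i.val r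

/-- The sign vector of a number. -/
def sgn (v : ℕ) (i : Fin D.rank) : Fˣ := (-1) ^ (v / 2 ^ i.val % 2)

theorem prod_zpow_sum {ι : Type*} (s : Finset ι) (a : Fˣ) (f : ι → ℤ) :
    ∏ i ∈ s, a ^ f i = a ^ ∑ i ∈ s, f i := by
  classical
  induction s using Finset.induction_on with
  | empty => simp
  | insert x s hx ih => rw [Finset.sum_insert hx, Finset.prod_insert hx, zpow_add, ih]

theorem chi_sgn {v r : ℕ} :
    chi (D := D) (F := F) (sgn v) r = if ev D v r then 1 else -1 := by
  have hc : chi (D := D) (F := F) (sgn v) r = (-1) ^ sS D v r := by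
    rw [chi, sS]
    simp only [sgn, ← zpow_natCast, ← zpow_mul]
    rw [prod_zpow_sum]
  rw [hc, ev]
  by_cases hp : sS D v r % 2 = 0
  · simp [hp, (Int.even_iff.2 hp).neg_one_zpow]
  · simp [hp, (Int.not_even_iff_odd.1 fun he => hp (Int.even_iff.1 he)).neg_one_zpow]

/-- The torus element of a sign vector. -/
noncomputable def tv (v : ℕ) : ↥(D.group F) :=
  ⟨H52.torus D (sgn v), C.hC.diag_le_group (by
    rw [C.hC.diagonalSubgroup_eq]; exact ⟨_, rfl⟩)⟩

theorem mem_H_iff (g : ↥(D.group F)) :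
    g ∈ (H53.grpSys C.W F).H ↔ ∃ c, (g : GL D.Idx F) = H52.torus D c := by
  rw [← H53.mem_diag_iff C.hC C.W, C.hC.diagonalSubgroup_eq]
  exact ⟨fun ⟨c, hc⟩ => ⟨c, hc.symm⟩, fun ⟨c, hc⟩ => ⟨c, hc.symm⟩⟩

theorem tv_mem (v : ℕ) : tv C (F := F) v ∈ (H53.grpSys C.W F).H := (mem_H_iff C _).2 ⟨_, rfl⟩

theorem tv_conj {v : ℕ} (r : Fin D.nroots) (t : F) :
    (tv C (F := F) v : GL D.Idx F) * H52.rt D r.val t * (tv C (F := F) v : GL D.Idx F)⁻¹ =
      H52.rt D r.val ((((if ev D v r.val then 1 else -1 : Fˣ)) : F) * t) := by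
  rw [← chi_sgn]
  exact C.hC.torus_conj_rt _ r.isLt t

theorem torus_ext {c d : Fin D.rank → Fˣ}
    (h : ∀ r : Fin D.nroots, chi c r.val = chi d r.val) :
    H52.torus D c = H52.torus D d :=
  H52.dgR_congr fun s hs => h ⟨s, hs⟩

/-- Elements of the torus are determined by their action on the root subgroups. -/
theorem H_ext {g g' : ↥(D.group F)} (hg : g ∈ (H53.grpSys C.W F).H)
    (hg' : g' ∈ (H53.grpSys C.W F).H)
    (h : ∀ r : Fin D.nroots,
      (g : GL D.Idx F) * H52.rt D r.val (1 : F) * (g : GL D.Idx F)⁻¹ =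
        (g' : GL D.Idx F) * H52.rt D r.val (1 : F) * (g' : GL D.Idx F)⁻¹) :
    g = g' := by
  obtain ⟨c, hc⟩ := (mem_H_iff C g).1 hg
  obtain ⟨d, hd⟩ := (mem_H_iff C g').1 hg'
  refine Subtype.ext ?_
  rw [hc, hd]
  refine torus_ext fun r => ?_
  have h1 := h r
  rw [hc, hd, C.hC.torus_conj_rt _ r.isLt, C.hC.torus_conj_rt _ r.isLt] at h1
  have h2 := C.hC.rt_injective r.isLt h1
  rw [mul_one, mul_one] at h2
  exact Units.ext h2

theorem one_ne_neg_one (h2 : (2 : F) ≠ 0) : (1 : Fˣ) ≠ -1 := fun h => h2 (by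
  have := congrArg (fun u : Fˣ => (u : F)) h
  simp only [Units.val_one, Units.val_neg] at this
  linear_combination this)

/-- An element of `N` acting by `π` moves `tv v` to `tv v'` iff `π` respects the parities. -/
theorem conj_tv (h2 : (2 : F) ≠ 0) {v v' : ℕ}
    {n : ↥(D.group F)} (hn : n ∈ (H53.grpSys C.W F).N)
    {π : Equiv.Perm (Fin D.nroots)} (hπ : (H53.grpSys C.W F).Acts n π) :
    n * tv C v * n⁻¹ = tv C v' ↔ ∀ r : Fin D.nroots, ev D v' (π r).val = ev D v r.val := by
  obtain hlin := lin_of_acts C hn hπ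
  have key : ∀ r : Fin D.nroots, ∀ t : F,
      ((n * tv C v * n⁻¹ : ↥(D.group F)) : GL D.Idx F) * H52.rt D (π r).val t *
        ((n * tv C v * n⁻¹ : ↥(D.group F)) : GL D.Idx F)⁻¹ =
      H52.rt D (π r).val ((((if ev D v r.val then 1 else -1 : Fˣ)) : F) * t) := by
    intro r t
    obtain ⟨c, hc⟩ := hlin r
    have h1 := hc ((c : F)⁻¹ * t)
    rw [← mul_assoc, mul_inv_cancel₀ c.ne_zero, one_mul] at h1
    rw [← h1, Subgroup.coe_mul, Subgroup.coe_mul, Subgroup.coe_inv,
      show ∀ a b x : GL D.Idx F, a * b * a⁻¹ * (a * x * a⁻¹) * (a * b * a⁻¹)⁻¹ =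
        a * (b * x * b⁻¹) * a⁻¹ by intros; group, tv_conj C, hc]
    congr 1
    field_simp
  constructor
  · intro he r
    have h := key r 1
    rw [he, tv_conj C] at h
    have h' := C.hC.rt_injective (π r).isLt h
    rw [mul_one, mul_one] at h'
    have h'' := Units.ext (α := F) h'
    cases h1 : ev D v' (π r).val <;> cases h3 : ev D v r.val <;>
      simp [h1, h3, one_ne_neg_one h2, (one_ne_neg_one h2).symm] at h'' ⊢
  · intro hall
    have hH : n * tv C v * n⁻¹ ∈ (H53.grpSys C.W F).H := by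
      refine mem_H_of_acts_one C.axioms C.sep
        (mul_mem (mul_mem hn (H_le_N (tv_mem C v))) (inv_mem hn)) ?_
      simpa using acts_mul (acts_mul hπ (acts_H C.axioms (tv_mem C v))) (acts_inv hπ)
    refine H_ext C hH (tv_mem C v') fun r => ?_
    obtain ⟨s, rfl⟩ := π.surjective r
    rw [key, tv_conj C, hall s]

/-! ### The involutions. -/

theorem tv_ne_one (h2 : (2 : F) ≠ 0) {v : ℕ} {r : Fin D.nroots} (he : ev D v r.val = false) :
    tv C (F := F) v ≠ 1 := by
  intro h
  have h1 := tv_conj C (F := F) (v := v) r 1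
  rw [h, OneMemClass.coe_one, one_mul, inv_one, mul_one] at h1
  have h3 := C.hC.rt_injective r.isLt h1
  rw [he] at h3
  simp only [Bool.false_eq_true, if_false, Units.val_neg, Units.val_one] at h3
  exact h2 (by linear_combination h3)

theorem tv_sq (v : ℕ) : tv C (F := F) v * tv C v = 1 := by
  apply Subtype.ext
  show H52.torus D (sgn v) * H52.torus D (sgn v) = 1
  rw [← map_mul, ← map_one (H52.torus D)]
  congr 1
  funext i
  rw [Pi.mul_apply, Pi.one_apply, sgn, ← pow_add, ← two_mul, pow_mul, neg_one_sq, one_pow]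

theorem tv_zero : tv C (F := F) 0 = 1 := Subtype.ext (by
  show H52.torus D (sgn 0) = 1
  rw [← map_one (H52.torus D)]
  congr 1
  funext i
  simp [sgn])

variable [Fintype F]

include C in
theorem torus_injective (hd : H52.HasDivisors D fun _ => 1) :
    Function.Injective (H52.torus D (F := F)) := by
  classical
  have h := C.hC.card_diagonal (F := F) hd
  rw [C.hC.diagonalSubgroup_eq] at h
  let f : (Fin D.rank → Fˣ) → ↥((H52.torus D (F := F)).range) :=
    (H52.torus D (F := F)).rangeRestrict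
  have hf : Function.Bijective f := by
    have : Fintype ↥((H52.torus D (F := F)).range) := Fintype.ofFinite _
    refine (Fintype.bijective_iff_surjective_and_card f).2
      ⟨(H52.torus D (F := F)).rangeRestrict_surjective, ?_⟩
    rw [← Nat.card_eq_fintype_card, ← Nat.card_eq_fintype_card, Nat.card_pi, Nat.card_units,
      Nat.card_eq_fintype_card]
    simp only [Finset.prod_const, Finset.card_univ, Fintype.card_fin]
    rw [← h, Finset.prod_eq_one fun i _ => Nat.gcd_one_right _, one_mul]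
  exact fun a b hab => hf.1 (Subtype.ext hab)

/-- An involution of the torus is one of the `tv v`. -/
theorem exists_tv (hd : H52.HasDivisors D fun _ => 1) {g : ↥(D.group F)}
    (hg : g ∈ (H53.grpSys C.W F).H) (hg1 : g * g = 1) :
    ∃ v < 2 ^ D.rank, g = tv C v := by
  classical
  obtain ⟨c, hc⟩ := (mem_H_iff C g).1 hg
  have hcc : c * c = 1 := torus_injective C hd (by
    rw [map_mul, map_one, ← hc]; exact congrArg Subtype.val hg1)
  have hv : ∀ i, c i = 1 ∨ c i = -1 := fun i => by
    have h := congrArg Units.val (congrFun hcc i)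
    rw [Pi.mul_apply, Pi.one_apply, Units.val_mul, Units.val_one] at h
    rcases mul_self_eq_one_iff.1 h with h | h
    · exact Or.inl (Units.ext h)
    · exact Or.inr (Units.ext (by rw [h]; rfl))
  let b : Fin D.rank → Fin 2 := fun i => if c i = 1 then 0 else 1
  refine ⟨(finFunctionFinEquiv b).val, (finFunctionFinEquiv b).isLt, Subtype.ext ?_⟩
  rw [hc]
  show H52.torus D c = H52.torus D (sgn _)
  congr 1
  funext i
  have hb := finFunctionFinEquiv_symm_apply_val (finFunctionFinEquiv b) i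
  rw [Equiv.symm_apply_apply] at hb
  rw [sgn, ← hb]
  by_cases h : c i = 1
  · simp [b, h]
  · have e : b i = 1 := if_neg h
    simp [e, (hv i).resolve_left h]

end H13.InvT
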