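import Cfsg.Agent.H13.InvT.Torus

/-!
The order of the centraliser of a torus involution.
-/

set_option autoImplicit false
set_option linter.unusedSectionVars false
set_option maxRecDepth 10000

open Cfsg.Lie
open H53.RootGroupSys

namespace H13.InvT

variable {D : ChevalleyDatum} (C : H54.Ctx D) {F : Type*} [Field F] [Fintype F]

/-- The Weyl group elements preserving the parities of a sign vector. -/
def stabV (v : ℕ) : Subgroup (Equiv.Perm (Fin D.nroots)) where
  carrier := {π | π ∈ WG C ∧ ∀ r : Fin D.nroots, ev D v (π r).val = ev D v r.val}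
  mul_mem' := fun {a b} ha hb => ⟨mul_mem ha.1 hb.1, fun r => by
    rw [Equiv.Perm.mul_apply, ha.2, hb.2]⟩
  one_mem' := ⟨one_mem _, fun _ => rfl⟩
  inv_mem' := fun {a} ha => ⟨inv_mem ha.1, fun r => by
    have h := ha.2 (a⁻¹ r)
    rw [show a (a⁻¹ r) = r from a.apply_symm_apply r] at h
    exact h.symm⟩

theorem mem_stabV {v : ℕ} {π : Equiv.Perm (Fin D.nroots)} :
    π ∈ stabV C v ↔ π ∈ WG C ∧ ∀ r : Fin D.nroots, ev D v (π r).val = ev D v r.val := Iff.rfl

/-- The ordered product over the roots with the given parameters, zero off `P`. -/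
noncomputable def uOf (P : Finset (Fin D.nroots)) (f : P → F) : GL D.Idx F :=
  H52.upProd D (D.nroots / 2) fun r =>
    if h : r < D.nroots then (if h' : (⟨r, h⟩ : Fin D.nroots) ∈ P then f ⟨_, h'⟩ else 0)
    else 0

include C in
theorem uOf_injective {P : Finset (Fin D.nroots)}
    (hP : ∀ r ∈ P, D.nroots / 2 ≤ r.val) : Function.Injective (uOf (F := F) P) := by
  intro f f' h
  funext ⟨r, hr⟩
  have := C.hC.upProd_injective le_rfl h r.val (hP r hr) r.isLt
  simpa [hr] using this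

include C in
theorem uOf_mem {P : Finset (Fin D.nroots)} (S : Subgroup ↥(D.group F))
    (hS : ∀ r ∈ P, ∀ t : F, ∀ g : ↥(D.group F),
      (g : GL D.Idx F) = H52.rt D r.val t → g ∈ S) (f : P → F) :
    ∃ g ∈ S, (g : GL D.Idx F) = uOf P f := by
  suffices h : uOf P f ∈ S.map (D.group F).subtype by
    obtain ⟨g, hg, he⟩ := h; exact ⟨g, hg, he⟩
  rw [uOf, H52.upProd, H52.wordRt]
  refine list_prod_mem fun x hx => ?_
  simp only [List.map_map, List.mem_map, Function.comp_apply] at hx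
  obtain ⟨r, hr, rfl⟩ := hx
  rw [List.mem_range'_1] at hr
  have hlt : r < D.nroots := by omega
  by_cases h' : (⟨r, hlt⟩ : Fin D.nroots) ∈ P
  · exact ⟨⟨_, C.rt_mem_group r _⟩, hS _ h' _ _ rfl, rfl⟩
  · rw [dif_pos hlt, dif_neg h', C.hC.rt_zero]; exact one_mem _

include C in
theorem conj_upProd (g : GL D.Idx F) (χ : ℕ → F)
    (h : ∀ r < D.nroots, ∀ t : F, g * H52.rt D r t * g⁻¹ = H52.rt D r (χ r * t))
    (k : ℕ) (f : ℕ → F) :
    g * H52.upProd D k f * g⁻¹ = H52.upProd D k fun r => χ r * f r := by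
  rw [H52.upProd, H52.upProd, H52.wordRt, H52.wordRt, ← MulAut.conj_apply, map_list_prod,
    List.map_map, List.map_map, List.map_map]
  refine congrArg List.prod (List.map_congr_left fun r hr => ?_)
  rw [List.mem_range'_1] at hr
  exact h r (by omega) _

/-- The fixed part of a set of positive roots. -/
def fixPart (v : ℕ) (P : Finset (Fin D.nroots)) : Finset (Fin D.nroots) :=
  P.filter fun r => ev D v r.val = true

/-- The positive roots made negative by `π`. -/
def invRoots (π : Equiv.Perm (Fin D.nroots)) : Finset (Fin D.nroots) :=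
  Finset.univ.filter fun r => D.nroots / 2 ≤ r.val ∧ ¬ D.nroots / 2 ≤ (π r).val

/-- The positive roots. -/
def posRts : Finset (Fin D.nroots) :=
  Finset.univ.filter fun r => D.nroots / 2 ≤ r.val

include C in
theorem uOf_mem_Uinv (π : Equiv.Perm (Fin D.nroots)) (f : invRoots π → F) :
    ∃ g ∈ (H53.grpSys C.W F).Uinv π, (g : GL D.Idx F) = uOf (invRoots π) f := by
  let K : H52.BNData D C.T := ⟨C.hC, C.hok, C.W⟩
  refine uOf_mem C _ (fun r hr t g hg => ?_) f
  simp only [invRoots, Finset.mem_filter, Finset.mem_univ, true_and] at hr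
  exact Subgroup.subset_closure ⟨r, hr.1, hr.2, K.mem_U_iff.2 ⟨t, hg⟩⟩

include C in
theorem Uinv_eq {n : ↥(D.group F)} {π : Equiv.Perm (Fin D.nroots)}
    (hπ : (H53.grpSys C.W F).Acts n π) {g : ↥(D.group F)}
    (hg : g ∈ (H53.grpSys C.W F).Uinv π) :
    ∃ f : invRoots π → F, (g : GL D.Idx F) = uOf (invRoots π) f := by
  classical
  let K : H52.BNData D C.T := ⟨C.hC, C.hok, C.W⟩
  choose Φ hΦ hΦ' using uOf_mem_Uinv C (F := F) π
  let Ψ : (invRoots π → F) → ↥((H53.grpSys C.W F).Uinv π) := fun f => ⟨Φ f, hΦ f⟩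
  have hinj : Function.Injective Ψ := fun a b h => by
    refine uOf_injective C (fun r hr => (Finset.mem_filter.1 hr).2.1) ?_
    rw [← hΦ' a, ← hΦ' b]
    exact congrArg (fun z : ↥((H53.grpSys C.W F).Uinv π) =>
      ((z.1 : ↥(D.group F)) : GL D.Idx F)) h
  have hcard : Nat.card ↥((H53.grpSys C.W F).Uinv π) = Nat.card (invRoots π → F) := by
    rw [H52.card_Uinv C.axioms C.sep (fun r => K.card_U r) _ n π hπ rfl, Nat.card_fun,
      Nat.card_eq_fintype_card (α := F)]
    congr 1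
    rw [H52.invCard, Nat.card_eq_fintype_card, Nat.card_eq_fintype_card,
      Fintype.card_subtype, Fintype.card_coe]
    congr 1
    ext r
    simp only [invRoots, Finset.mem_filter, Finset.mem_univ, true_and]
    rfl
  have hbij : Function.Bijective Ψ :=
    (Fintype.bijective_iff_injective_and_card _).2 ⟨hinj, by
      rw [← Nat.card_eq_fintype_card, ← Nat.card_eq_fintype_card, hcard]⟩
  obtain ⟨f, hf⟩ := hbij.2 ⟨g, hg⟩
  exact ⟨f, by rw [← hΦ' f]; exact (congrArg (fun z : ↥((H53.grpSys C.W F).Uinv π) =>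
    ((z.1 : ↥(D.group F)) : GL D.Idx F)) hf).symm⟩

theorem card_fix (h2 : (2 : F) ≠ 0) {v : ℕ} (P : Finset (Fin D.nroots))
    (hP : ∀ r ∈ P, D.nroots / 2 ≤ r.val) (S : Subgroup ↥(D.group F))
    (hsub : ∀ f : P → F, ∃ g ∈ S, (g : GL D.Idx F) = uOf P f)
    (hsup : ∀ g ∈ S, ∃ f : P → F, (g : GL D.Idx F) = uOf P f) :
    Nat.card {g : S // tv C (F := F) v * (g : ↥(D.group F)) * (tv C (F := F) v)⁻¹ = g} =
      Fintype.card F ^ (fixPart v P).card := by
  classical
  choose Φ hΦ hΦ' using hsub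
  let ext' : (fixPart v P → F) → (P → F) := fun f r =>
    if h : r.1 ∈ fixPart v P then f ⟨r.1, h⟩ else 0
  have hconj : ∀ f : P → F, ((tv C v * Φ f * (tv C v)⁻¹ : ↥(D.group F)) : GL D.Idx F) =
      uOf P fun r => ((if ev D v r.1.val then 1 else -1 : Fˣ) : F) * f r := by
    intro f
    rw [Subgroup.coe_mul, Subgroup.coe_mul, Subgroup.coe_inv, hΦ', uOf, uOf,
      conj_upProd C _ (fun r => ((if ev D v r then 1 else -1 : Fˣ) : F))
        (fun r hr t => tv_conj C ⟨r, hr⟩ t)]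
    refine H52.Checked.upProd_congr fun r _ hr => ?_
    rw [dif_pos hr, dif_pos hr]
    split <;> simp
  have hfix : ∀ f : P → F, tv C v * Φ f * (tv C v)⁻¹ = Φ f ↔
      ∀ r : P, r.1 ∉ fixPart v P → f r = 0 := by
    intro f
    constructor
    · intro h r hr
      have h1 : ((tv C v * Φ f * (tv C v)⁻¹ : ↥(D.group F)) : GL D.Idx F) = Φ f :=
        congrArg Subtype.val h
      rw [hconj, hΦ'] at h1
      have h3 := congrFun (uOf_injective C hP h1) r
      have he : ev D v r.1.val = false := by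
        simpa [fixPart, r.2] using hr
      simp only [he, Bool.false_eq_true, if_false, Units.val_neg, Units.val_one] at h3
      have : (2 : F) * f r = 0 := by linear_combination -h3
      exact (mul_eq_zero.1 this).resolve_left h2
    · intro h
      apply Subtype.ext
      rw [hconj, hΦ']
      congr 1
      funext r
      by_cases hr : r.1 ∈ fixPart v P
      · rw [(Finset.mem_filter.1 hr).2, if_pos rfl, Units.val_one, one_mul]
      · rw [h r hr, mul_zero]
  let Ψ : (fixPart v P → F) → {g : S // tv C (F := F) v * (g : ↥(D.group F)) * (tv C (F := F) v)⁻¹ = g} :=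
    fun f => ⟨⟨Φ (ext' f), hΦ _⟩, (hfix _).2 fun r hr => dif_neg hr⟩
  have hbij : Function.Bijective Ψ := by
    constructor
    · intro a b h
      have h1 : (Φ (ext' a) : GL D.Idx F) = Φ (ext' b) :=
        congrArg (fun z : {g : S // tv C (F := F) v * (g : ↥(D.group F)) * (tv C (F := F) v)⁻¹ = g} =>
          ((z.1.1 : ↥(D.group F)) : GL D.Idx F)) h
      rw [hΦ', hΦ'] at h1
      have h3 := uOf_injective C hP h1
      funext r
      have := congrFun h3 ⟨r.1, (Finset.mem_filter.1 r.2).1⟩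
      simpa [ext', r.2] using this
    · rintro ⟨⟨g, hg⟩, he⟩
      obtain ⟨f, hf⟩ := hsup g hg
      have hgf : Φ f = g := Subtype.ext (by rw [hΦ', hf])
      refine ⟨fun r => f ⟨r.1, (Finset.mem_filter.1 r.2).1⟩, Subtype.ext (Subtype.ext ?_)⟩
      show Φ _ = g
      rw [← hgf]
      congr 1
      funext r
      by_cases hr : r.1 ∈ fixPart v P
      · simp [ext', hr]
      · simp only [ext', dif_neg hr]
        exact ((hfix f).1 (by rw [hgf]; exact he) r hr).symm
  rw [← Nat.card_eq_of_bijective Ψ hbij, Nat.card_fun, Nat.card_eq_fintype_card (α := F),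
    Nat.card_eq_fintype_card, Fintype.card_coe]

include C in
theorem mem_posU (g : ↥(D.group F)) (hg : g ∈ (H53.grpSys C.W F).Uplus) :
    ∃ f : posRts → F, (g : GL D.Idx F) = uOf posRts f := by
  have h := (H53.mem_pos_iff C.hC C.W g).2 hg
  rw [C.hC.posUnipotent_eq] at h
  obtain ⟨t, ht⟩ := C.hC.exists_upProd le_rfl h
  refine ⟨fun r => t r.1.val, ht.trans (H52.Checked.upProd_congr fun r hr hlt => ?_)⟩
  have hm : (⟨r, hlt⟩ : Fin D.nroots) ∈ posRts :=
    Finset.mem_filter.2 ⟨Finset.mem_univ _, hr⟩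
  rw [dif_pos hlt, dif_pos hm]

include C in
theorem uOf_mem_pos (f : posRts → F) :
    ∃ g ∈ (H53.grpSys C.W F).Uplus, (g : GL D.Idx F) = uOf posRts f := by
  let K : H52.BNData D C.T := ⟨C.hC, C.hok, C.W⟩
  refine uOf_mem C _ (fun r hr t g hg => ?_) f
  exact U_le_Uplus (Finset.mem_filter.1 hr).2 (K.mem_U_iff.2 ⟨t, hg⟩)

/-- The number of positive even roots leaving the positive even roots. -/
def cnt (T : Finset (Fin D.nroots)) (π : Equiv.Perm (Fin D.nroots)) : ℕ :=
  (T.filter fun r => π r ∉ T).card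

theorem card_fixPart_inv {v : ℕ} {π : Equiv.Perm (Fin D.nroots)} (hπ : π ∈ stabV C v) :
    (fixPart v (invRoots π)).card = cnt (fixPart v posRts) π := by
  congr 1
  ext r
  simp only [fixPart, invRoots, posRts, Finset.mem_filter, Finset.mem_univ, true_and,
    (mem_stabV C).1 hπ |>.2 r]
  tauto

theorem card_cent (h2 : (2 : F) ≠ 0) (hd : H52.HasDivisors D fun _ => 1) {v : ℕ} :
    Nat.card (Subgroup.centralizer ({tv C (F := F) v} : Set ↥(D.group F))) =
      Fintype.card F ^ (fixPart v (posRts (D := D))).card * (Fintype.card F - 1) ^ D.rank *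
        ∑ᶠ π : ↥(stabV C v), Fintype.card F ^ cnt (fixPart v posRts) π.1 := by
  classical
  set S := H53.grpSys C.W F with hSdef
  have hA := C.axioms (F := F)
  have hS := C.sep (F := F)
  set t := tv C (F := F) v with ht
  have htH : t ∈ S.H := tv_mem C v
  have hex : ∀ π : S.W, ∃ w ∈ S.N, S.Acts w π.1 := fun π => by
    obtain ⟨L, hL⟩ := C.exists_wperm π.2
    exact ⟨C.nwG L, C.nwG_mem_N L, hL ▸ C.nwG_acts L⟩
  choose wr hwN hwA using hex
  let Fx := {π : S.W // wr π * t * (wr π)⁻¹ = t}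
  let fU := {u : S.Uplus // t * (u : ↥(D.group F)) * t⁻¹ = u}
  let fV : Fx → Type _ := fun π =>
    {u : S.Uinv π.1.1 // t * (u : ↥(D.group F)) * t⁻¹ = u}
  have hHab : ∀ h ∈ S.H, t * h * t⁻¹ = h := by
    intro h hh
    obtain ⟨c, hc⟩ := (mem_H_iff C h).1 hh
    apply Subtype.ext
    rw [Subgroup.coe_mul, Subgroup.coe_mul, Subgroup.coe_inv, hc, ht]
    show H52.torus D _ * H52.torus D c * (H52.torus D _)⁻¹ = H52.torus D c
    rw [← map_inv, ← map_mul, ← map_mul, mul_comm (sgn v), mul_inv_cancel_right]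
  let f : (Σ π : Fx, fU × ↥S.H × fV π) →
      Subgroup.centralizer ({t} : Set ↥(D.group F)) := fun p =>
    ⟨p.2.1.1.1 * p.2.2.1.1 * wr p.1.1 * p.2.2.2.1.1, by
      rw [Subgroup.mem_centralizer_singleton_iff]
      have h1 := p.2.1.2
      have h3 := hHab _ p.2.2.1.2
      have h4 := p.2.2.2.2
      have h5 : t * wr p.1.1 * t⁻¹ = wr p.1.1 := by
        have := p.1.2
        rw [mul_inv_eq_iff_eq_mul] at this ⊢
        exact this.symm
      symm
      calc t * (p.2.1.1.1 * p.2.2.1.1 * wr p.1.1 * p.2.2.2.1.1)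
          = (t * p.2.1.1.1 * t⁻¹) * (t * p.2.2.1.1 * t⁻¹) * (t * wr p.1.1 * t⁻¹) *
            (t * p.2.2.2.1.1 * t⁻¹) * t := by group
        _ = _ := by rw [h1, h3, h4, h5]⟩
  have hUH : ∀ {u u' h h' : ↥(D.group F)}, u ∈ S.Uplus → u' ∈ S.Uplus → h ∈ S.H →
      h' ∈ S.H → u * h = u' * h' → u = u' ∧ h = h' := by
    intro u u' h h' hu hu' hh hh' he
    have hx : u'⁻¹ * u = h' * h⁻¹ := by
      rw [inv_mul_eq_iff_eq_mul, ← mul_assoc, eq_mul_inv_iff_mul_eq]; exact he
    have h1 : ((u'⁻¹ * u : ↥(D.group F)) : GL D.Idx F) ∈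
        D.posUnipotent F ⊓ D.diagonalSubgroup F :=
      Subgroup.mem_inf.2 ⟨(H53.mem_pos_iff C.hC C.W _).2 (mul_mem (inv_mem hu') hu),
        (H53.mem_diag_iff C.hC C.W _).2 (hx ▸ mul_mem hh' (inv_mem hh))⟩
    rw [C.hC.pos_inf_diag, Subgroup.mem_bot] at h1
    have h3 : u'⁻¹ * u = 1 := Subtype.ext h1
    rw [inv_mul_eq_one] at h3
    subst h3
    exact ⟨rfl, mul_left_cancel he⟩
  have hf : Function.Bijective f := by
    constructor
    · rintro ⟨π, ⟨⟨u, hu⟩, hu1⟩, ⟨h, hh⟩, ⟨⟨x, hx⟩, hx1⟩⟩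
        ⟨π', ⟨⟨u', hu'⟩, hu1'⟩, ⟨h', hh'⟩, ⟨⟨x', hx'⟩, hx1'⟩⟩ e
      have e' : u * h * wr π.1 * x = u' * h' * wr π'.1 * x' := congrArg Subtype.val e
      obtain ⟨hH, huniq⟩ := normal_form_unique hA hS (hwN π.1) (hwN π'.1) (hwA π.1) (hwA π'.1)
        (mul_mem (Uplus_le_B hu) (H_le_B hh)) (mul_mem (Uplus_le_B hu') (H_le_B hh')) hx hx' e'
      obtain rfl : π = π' := by
        have h1 := acts_mul (hwA π.1) (acts_H hA hH)
        rw [mul_inv_cancel_left, mul_one] at h1
        exact Subtype.ext (Subtype.ext (acts_unique hA hS h1 (hwA π'.1)))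
      obtain ⟨hb, rfl⟩ := huniq rfl
      obtain ⟨rfl, rfl⟩ := hUH hu hu' hh hh' hb
      rfl
    · rintro ⟨g, hg⟩
      rw [Subgroup.mem_centralizer_singleton_iff] at hg
      obtain ⟨b, hb, w, hw, π, hπ, x, hx, rfl⟩ := exists_normal_form hA g
      set π' : S.W := ⟨π, hπ.1⟩
      set h0 := w * (wr π')⁻¹
      have hh0 : h0 ∈ S.H := mem_H_of_acts_one hA hS (mul_mem hw (inv_mem (hwN _)))
        (by simpa [h0, π'] using acts_mul hπ (acts_inv (hwA π')))
      obtain ⟨u, hu, h, hh, he⟩ := mem_B hA (mul_mem hb (H_le_B hh0))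
      have hfac : b * w * x = u * h * wr π' * x := by
        rw [← he]; simp [h0, mul_assoc]
      set cw := t * wr π' * t⁻¹ * (wr π')⁻¹
      have hcw : cw ∈ S.H := by
        refine mem_H_of_acts_one hA hS ?_ ?_
        · exact mul_mem (mul_mem (mul_mem (H_le_N htH) (hwN _)) (inv_mem (H_le_N htH)))
            (inv_mem (hwN _))
        · simpa using acts_mul (acts_mul (acts_mul (acts_H hA htH) (hwA π'))
            (acts_inv (acts_H hA htH))) (acts_inv (hwA π'))
      have hxU : t * x * t⁻¹ ∈ S.Uinv π := by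
        have : (S.Uinv π).map (MulAut.conj t).toMonoidHom ≤ S.Uinv π := by
          rw [H53.RootGroupSys.Uinv, MonoidHom.map_closure, Subgroup.closure_le]
          rintro _ ⟨z, ⟨r, hr, hr', hz⟩, rfl⟩
          exact Subgroup.subset_closure ⟨r, hr, hr', acts_conj_mem (acts_H hA htH) hz⟩
        exact this ⟨x, hx, rfl⟩
      have htu : t * u * t⁻¹ ∈ S.Uplus := H_conj_Uplus hA htH hu
      have heq : (t * u * t⁻¹) * (h * cw) * wr π' * (t * x * t⁻¹) = u * h * wr π' * x := by
        have h1 : t * (u * h * wr π' * x) * t⁻¹ = u * h * wr π' * x := by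
          rw [← hfac, ← hg, mul_inv_cancel_right]
        conv_rhs => rw [← h1]
        rw [show t * (u * h * wr π' * x) * t⁻¹ =
          (t * u * t⁻¹) * (t * h * t⁻¹) * (t * wr π' * t⁻¹) * (t * x * t⁻¹) by group,
          hHab h hh]
        simp [cw, mul_assoc]
      obtain ⟨hb', hx'⟩ := (normal_form_unique hA hS (hwN π') (hwN π') (hwA π') (hwA π')
        (mul_mem (Uplus_le_B htu) (H_le_B (mul_mem hh hcw))) (mul_mem (Uplus_le_B hu) (H_le_B hh))
        hxU hx heq).2 rfl
      obtain ⟨hu', hc⟩ := hUH htu hu (mul_mem hh hcw) hh hb'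
      rw [mul_eq_left] at hc
      have hfix : wr π' * t * (wr π')⁻¹ = t := by
        rw [mul_inv_eq_iff_eq_mul]
        have := mul_inv_eq_one.1 hc
        rw [mul_inv_eq_iff_eq_mul] at this
        exact this.symm
      exact ⟨⟨⟨π', hfix⟩, ⟨⟨u, hu⟩, hu'⟩, ⟨h, hh⟩, ⟨⟨x, hx⟩, hx'⟩⟩, Subtype.ext hfac.symm⟩
  rw [← Nat.card_eq_of_bijective f hf, Nat.card_sigma]
  have hU : Nat.card fU = Fintype.card F ^ (fixPart v (posRts (D := D))).card :=
    card_fix C h2 (v := v) posRts (fun r hr => (Finset.mem_filter.1 hr).2) S.Uplus (uOf_mem_pos C)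
      fun g hg => mem_posU C g hg
  have hH : Nat.card ↥S.H = (Fintype.card F - 1) ^ D.rank := by
    have e : Nat.card ↥S.H = Nat.card (Fin D.rank → Fˣ) := by
      refine (Nat.card_eq_of_bijective (fun c => (⟨⟨H52.torus D c,
        C.hC.diag_le_group (by rw [C.hC.diagonalSubgroup_eq]; exact ⟨c, rfl⟩)⟩,
        (mem_H_iff C _).2 ⟨c, rfl⟩⟩ : ↥S.H)) ⟨fun a b h => torus_injective C hd
          (congrArg (fun z : ↥S.H => ((z.1 : ↥(D.group F)) : GL D.Idx F)) h), ?_⟩).symm
      rintro ⟨g, hg⟩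
      obtain ⟨c, hc⟩ := (mem_H_iff C g).1 hg
      exact ⟨c, Subtype.ext (Subtype.ext hc.symm)⟩
    rw [e, Nat.card_pi, Finset.prod_const, Finset.card_univ, Fintype.card_fin,
      Nat.card_units, Nat.card_eq_fintype_card]
  have hFx : ∀ π : Fx, π.1.1 ∈ stabV C v := fun π =>
    ⟨π.1.2, (conj_tv C h2 (hwN π.1) (hwA π.1)).1 π.2⟩
  have hV : ∀ π : Fx, Nat.card (fV π) = Fintype.card F ^ cnt (fixPart v posRts) π.1.1 := by
    intro π
    rw [← card_fixPart_inv C (hFx π)]
    exact card_fix C h2 (v := v) _ (fun r hr => (Finset.mem_filter.1 hr).2.1) (S.Uinv π.1.1)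
      (uOf_mem_Uinv C π.1.1) fun g hg => Uinv_eq C (hwA π.1) hg
  have hterm : ∀ π : Fx, Nat.card (fU × ↥S.H × fV π) =
      Fintype.card F ^ (fixPart v (posRts (D := D))).card * (Fintype.card F - 1) ^ D.rank *
        Fintype.card F ^ cnt (fixPart v posRts) π.1.1 :=
    fun π => by rw [Nat.card_prod, Nat.card_prod, hU, hH, hV π, mul_assoc]
  rw [Finset.sum_congr rfl fun π _ => hterm π, ← Finset.mul_sum, ← finsum_eq_sum_of_fintype]
  congr 1
  let e : Fx ≃ ↥(stabV C v) :=
    { toFun := fun π => ⟨π.1.1, hFx π⟩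
      invFun := fun π => ⟨⟨π.1, π.2.1⟩, (conj_tv C h2 (hwN _) (hwA _)).2 π.2.2⟩
      left_inv := fun _ => rfl
      right_inv := fun _ => rfl }
  exact finsum_comp_equiv (f := fun π : ↥(stabV C v) => Fintype.card F ^ cnt (fixPart v posRts) π.1) e

end H13.InvT
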