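import Mathlib

/-!
The generating function of the number of inverted roots over a group of permutations, level by level
along coset representatives.
-/

set_option autoImplicit false
set_option linter.unusedSectionVars false

namespace H13.InvT

variable {α : Type*} [DecidableEq α]

/-- The number of elements of `T` leaving `T`. -/
def leave (T : Finset α) (π : Equiv.Perm α) : ℕ := (T.filter fun r => π r ∉ T).card

/-- The sum of `x` to the number of leaving elements. -/
noncomputable def gSum {R : Type*} [CommSemiring R] (T : Finset α) (G : Subgroup (Equiv.Perm α))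
    (x : R) : R :=
  ∑ᶠ π : ↥G, x ^ leave T π.1

theorem gSum_bot {R : Type*} [CommSemiring R] (T : Finset α) (x : R) :
    gSum T (⊥ : Subgroup (Equiv.Perm α)) x = 1 := by
  rw [gSum, finsum_eq_single _ (1 : ↥(⊥ : Subgroup (Equiv.Perm α)))
    fun a ha => absurd (Subsingleton.elim a 1) ha]
  rw [leave, show (T.filter fun r => ((1 : ↥(⊥ : Subgroup (Equiv.Perm α))).1 r) ∉ T).card = 0 by
    rw [Finset.card_eq_zero, Finset.filter_eq_empty_iff]
    exact fun r hr hn => hn (by simpa using hr), pow_zero]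

/-- `τ` behaves on `T` as the reflection in the element `b`. -/
structure Refl (T : Finset α) (τ : Equiv.Perm α) (b : α) : Prop where
  sq : τ * τ = 1
  mem : b ∈ T
  out : τ b ∉ T
  maps : ∀ r ∈ T, r ≠ b → τ r ∈ T

/-- Left multiplication by a reflection. -/
theorem leave_mul {T : Finset α} {τ w : Equiv.Perm α} {b : α} (hτ : Refl T τ b)
    (h1 : w⁻¹ b ∈ T) (h2 : w⁻¹ (τ b) ∉ T) : leave T (τ * w) = leave T w + 1 := by
  have hττ : ∀ x, τ (τ x) = x := fun x => by rw [← Equiv.Perm.mul_apply, hτ.sq]; rfl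
  have hw : ∀ x, w (w⁻¹ x) = x := fun x => w.apply_symm_apply x
  have key : ∀ x, τ x ∉ T ↔ (x ∉ T ∧ x ≠ τ b) ∨ x = b := by
    intro x
    constructor
    · intro hx
      by_cases hxb : x = b
      · exact Or.inr hxb
      · refine Or.inl ⟨fun hxT => hx (hτ.maps x hxT hxb), ?_⟩
        rintro rfl
        exact hx (by rw [hττ]; exact hτ.mem)
    · rintro (⟨hx, hne⟩ | rfl) h
      · refine hx ?_
        have h' := hτ.maps _ h fun e => hne (by rw [← e, hττ])
        rwa [hττ] at h'
      · exact hτ.out h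
  have hset : (T.filter fun r => (τ * w) r ∉ T) =
      insert (w⁻¹ b) (T.filter fun r => w r ∉ T) := by
    ext r
    simp only [Finset.mem_filter, Finset.mem_insert, Equiv.Perm.mul_apply, key]
    constructor
    · rintro ⟨hr, ⟨h, -⟩ | h⟩
      · exact Or.inr ⟨hr, h⟩
      · exact Or.inl (by rw [← h]; exact (w.symm_apply_apply r).symm)
    · rintro (rfl | ⟨hr, h⟩)
      · exact ⟨h1, Or.inr (hw b)⟩
      · refine ⟨hr, Or.inl ⟨h, fun e => h2 ?_⟩⟩
        rw [← e]
        simpa using hr
  rw [leave, hset, Finset.card_insert_of_notMem]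
  · rfl
  · simp [hτ.mem]

/-- The data of one level: generators, the generators of the next level and a system of
representatives with their transition rule. -/
structure Cover {ι : Type*} {m : ℕ} (gen : ι → Equiv.Perm α) (H : Subgroup (Equiv.Perm α))
    (d : Fin m → Equiv.Perm α) : Prop where
  sq : ∀ i, gen i * gen i = 1
  base : ∃ p, d p = 1
  trans : ∀ i p, ∃ p', ∃ h ∈ H, gen i * d p = d p' * h

/-- The generated group is covered by the cosets of the representatives. -/
theorem Cover.exists_eq {ι : Type*} {m : ℕ} {gen : ι → Equiv.Perm α}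
    {H : Subgroup (Equiv.Perm α)} {d : Fin m → Equiv.Perm α} (hC : Cover gen H d)
    {π : Equiv.Perm α} (hπ : π ∈ Subgroup.closure (Set.range gen)) :
    ∃ p, ∃ h ∈ H, π = d p * h := by
  induction hπ using Subgroup.closure_induction_left with
  | one =>
    obtain ⟨p, hp⟩ := hC.base
    exact ⟨p, 1, one_mem _, by rw [hp, one_mul]⟩
  | mul_left x hx y _ ih =>
    obtain ⟨i, rfl⟩ := hx
    obtain ⟨p, h, hh, rfl⟩ := ih
    obtain ⟨p', h', hh', e⟩ := hC.trans i p
    exact ⟨p', h' * h, mul_mem hh' hh, by rw [← mul_assoc, e, mul_assoc]⟩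
  | inv_mul_cancel x hx y _ ih =>
    obtain ⟨i, rfl⟩ := hx
    obtain ⟨p, h, hh, rfl⟩ := ih
    obtain ⟨p', h', hh', e⟩ := hC.trans i p
    refine ⟨p', h' * h, mul_mem hh' hh, ?_⟩
    rw [inv_eq_of_mul_eq_one_right (hC.sq i), ← mul_assoc, e, mul_assoc]

/-- A finite set mapped into itself by generators is invariant under the group they generate. -/
theorem maps_of_gen [Finite α] {ι : Type*} {gen : ι → Equiv.Perm α} {S : Finset α}
    (h : ∀ i, ∀ r ∈ S, gen i r ∈ S) {π : Equiv.Perm α}
    (hπ : π ∈ Subgroup.closure (Set.range gen)) : ∀ r, π r ∈ S ↔ r ∈ S := by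
  induction hπ using Subgroup.closure_induction with
  | mem x hx =>
    obtain ⟨i, rfl⟩ := hx
    intro r
    constructor
    · intro hr
      have himg : S.image (gen i) = S :=
        Finset.eq_of_subset_of_card_le (fun z hz => by
          obtain ⟨y, hy, rfl⟩ := Finset.mem_image.1 hz
          exact h i y hy) (by rw [Finset.card_image_of_injective _ (gen i).injective])
      rw [← himg, Finset.mem_image] at hr
      obtain ⟨y, hy, e⟩ := hr
      rwa [(gen i).injective e] at hy
    · exact h i r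
  | one => exact fun r => Iff.rfl
  | mul x y _ _ hx hy => exact fun r => by rw [Equiv.Perm.mul_apply, hx, hy]
  | inv x _ hx =>
    intro r
    have := hx (x⁻¹ r)
    rw [show x (x⁻¹ r) = r from x.apply_symm_apply r] at this
    exact this.symm

/-- One level. -/
theorem gSum_step [Finite α] {R : Type*} [CommSemiring R] (x : R) {T : Finset α} {ι : Type*}
    {gen : ι → Equiv.Perm α} {H : Subgroup (Equiv.Perm α)} {m : ℕ}
    {d : Fin m → Equiv.Perm α} {len : Fin m → ℕ} (hC : Cover gen H d)
    (hHG : H ≤ Subgroup.closure (Set.range gen))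
    {S S' : Finset α} (hS : S ⊆ T) (hS' : Disjoint S' T)
    (hHS : ∀ h ∈ H, ∀ r, (h r ∈ S ↔ r ∈ S) ∧ (h r ∈ S' ↔ r ∈ S'))
    (hstep : ∀ p, (d p = 1 ∧ len p = 0) ∨ ∃ i q, ∃ b, d p = gen i * d q ∧ len p = len q + 1 ∧
      q < p ∧ Refl T (gen i) b ∧ (∃ r ∈ S, d q r = b) ∧ ∃ r ∈ S', d q r = gen i b)
    (hinj : ∀ p q, S.image (d p) = S.image (d q) → p = q) :
    gSum T (Subgroup.closure (Set.range gen)) x = (∑ p, x ^ len p) * gSum T H x := by
  classical
  have hmem : ∀ (k : ℕ) (p : Fin m), p.val = k → d p ∈ Subgroup.closure (Set.range gen) ∧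
      ∀ h ∈ H, leave T (d p * h) = len p + leave T h := by
    intro k
    induction k using Nat.strong_induction_on with
    | _ k ih =>
    intro p hp
    rcases hstep p with ⟨h1, h0⟩ | ⟨i, q, b, hd, hl, hlt, hτ, ⟨r, hr, hrb⟩, r', hr', hrb'⟩
    · exact ⟨h1 ▸ one_mem _, fun h _ => by rw [h1, one_mul, h0, zero_add]⟩
    · obtain ⟨hq, hqn⟩ := ih q.val (hp ▸ hlt) q rfl
      refine ⟨hd ▸ mul_mem (Subgroup.subset_closure ⟨i, rfl⟩) hq, fun h hh => ?_⟩
      have e : ∀ r z, d q r = z → (d q * h)⁻¹ z = h⁻¹ r := fun r z hz => by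
        rw [mul_inv_rev, Equiv.Perm.mul_apply, ← hz]
        exact congrArg _ ((d q).symm_apply_apply r)
      rw [hd, mul_assoc, leave_mul hτ, hqn h hh, hl]
      · ring
      · rw [e r b hrb]
        exact hS ((hHS _ (inv_mem hh) r).1.2 hr)
      · rw [e r' _ hrb']
        exact Finset.disjoint_left.1 hS' ((hHS _ (inv_mem hh) r').2.2 hr')
  let f : Fin m × ↥H → ↥(Subgroup.closure (Set.range gen)) := fun p =>
    ⟨d p.1 * p.2.1, mul_mem (hmem _ p.1 rfl).1 (hHG p.2.2)⟩
  have himg : ∀ p, ∀ h ∈ H, S.image ⇑(d p * h) = S.image (d p) := by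
    intro p h hh
    have himg : S.image h = S := by
      ext z
      rw [Finset.mem_image]
      constructor
      · rintro ⟨y, hy, rfl⟩; exact (hHS h hh y).1.2 hy
      · intro hz
        exact ⟨h⁻¹ z, (hHS _ (inv_mem hh) z).1.2 hz, h.apply_symm_apply z⟩
    calc S.image ⇑(d p * h) = (S.image h).image (d p) := by rw [Finset.image_image]; rfl
      _ = _ := by rw [himg]
  have hf : Function.Bijective f := by
    constructor
    · rintro ⟨p, h, hh⟩ ⟨p', h', hh'⟩ e
      have e' : d p * h = d p' * h' := congrArg Subtype.val e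
      obtain rfl : p = p' := hinj p p' (by rw [← himg p h hh, ← himg p' h' hh', e'])
      exact Prod.ext rfl (Subtype.ext (mul_left_cancel e'))
    · rintro ⟨π, hπ⟩
      obtain ⟨p, h, hh, rfl⟩ := hC.exists_eq hπ
      exact ⟨(p, ⟨h, hh⟩), rfl⟩
  have : Fintype ↥H := Fintype.ofFinite _
  have : Fintype ↥(Subgroup.closure (Set.range gen)) := Fintype.ofFinite _
  rw [gSum, gSum, finsum_eq_sum_of_fintype, finsum_eq_sum_of_fintype, Finset.sum_mul_sum,
    ← Fintype.sum_bijective f hf (fun p => x ^ leave T (f p).1) (fun w => x ^ leave T w.1)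
      fun _ => rfl, Fintype.sum_prod_type]
  refine Finset.sum_congr rfl fun p _ => Finset.sum_congr rfl fun h _ => ?_
  rw [show (f (p, h)).1 = d p * h.1 from rfl, (hmem _ p rfl).2 h.1 h.2, pow_add]

end H13.InvT
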