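import Cfsg.Agent.H54.ChevCtx
import Cfsg.Agent.H52.RankOne
import Cfsg.Agent.H54.WeylLattice

/-!
Elements acting linearly on the root subgroups, for an arbitrary Chevalley datum.
-/

set_option autoImplicit false
set_option linter.unusedSectionVars false
set_option maxRecDepth 10000

open Cfsg.Lie
open H53.RootGroupSys

namespace H13.InvT

variable {D : ChevalleyDatum} {F : Type*} [Field F]

/-- `g` permutes the root subgroups by `π`, linearly. -/
def Lin (g : GL D.Idx F) (π : Equiv.Perm (Fin D.nroots)) : Prop :=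
  ∀ r : Fin D.nroots, ∃ c : Fˣ, ∀ t : F,
    g * H52.rt D r.val t * g⁻¹ = H52.rt D (π r).val ((c : F) * t)

theorem lin_one : Lin (1 : GL D.Idx F) 1 := fun r => ⟨1, fun t => by simp⟩

theorem lin_mul {g g' : GL D.Idx F} {π π' : Equiv.Perm (Fin D.nroots)}
    (h : Lin g π) (h' : Lin g' π') : Lin (g * g') (π * π') := fun r => by
  obtain ⟨c', hc'⟩ := h' r
  obtain ⟨c, hc⟩ := h (π' r)
  refine ⟨c * c', fun t => ?_⟩
  rw [Equiv.Perm.mul_apply, Units.val_mul, mul_assoc (c : F), ← hc, ← hc']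
  group

theorem lin_inv {g : GL D.Idx F} {π : Equiv.Perm (Fin D.nroots)} (h : Lin g π) :
    Lin g⁻¹ π⁻¹ := fun r => by
  obtain ⟨c, hc⟩ := h (π⁻¹ r)
  refine ⟨c⁻¹, fun t => ?_⟩
  have h1 := hc ((c⁻¹ : Fˣ) * t)
  rw [show π (π⁻¹ r) = r from π.apply_symm_apply r, ← mul_assoc,
    ← Units.val_mul, mul_inv_cancel, Units.val_one, one_mul] at h1
  rw [← h1]
  group

variable (C : H54.Ctx D)

include C in
theorem lin_unique {g : GL D.Idx F} {π π' : Equiv.Perm (Fin D.nroots)}
    (h : Lin g π) (h' : Lin g π') : π = π' := by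
  refine Equiv.ext fun r => Fin.ext ?_
  obtain ⟨c, hc⟩ := h r
  obtain ⟨c', hc'⟩ := h' r
  exact (C.rt_eq_rt (π r).isLt (π' r).isLt (t := (c : F) * 1) (by simp)
    ((hc 1).symm.trans (hc' 1))).1

include C in
theorem lin_torus (c : Fin D.rank → Fˣ) : Lin (H52.torus D c) 1 := fun r =>
  ⟨_, fun t => C.hC.torus_conj_rt c r.isLt t⟩

include C in
theorem lin_diag {h : GL D.Idx F} (hh : h ∈ D.diagonalSubgroup F) : Lin h 1 := by
  rw [C.hC.diagonalSubgroup_eq] at hh
  obtain ⟨c, rfl⟩ := hh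
  exact lin_torus C c

theorem lin_sigma (i : Fin D.rank) :
    Lin (H52.nElt D (D.simple i.val) (1 : F)) (C.W.sigma i) := fun r => by
  have he : ((C.T.eps i.val r.val : ℤ) : F) ≠ 0 := by
    rcases H52.Checked.eps_eq_or (T := C.T) i.val r.val with h | h <;> simp [h]
  refine ⟨Units.mk0 _ he, fun t => ?_⟩
  rw [C.sigma_val, Units.val_mk0]
  exact C.hC.sig_conj_rt i.isLt r.isLt t

theorem lin_nElt_simple (i : Fin D.rank) {t : F} (ht : t ≠ 0) :
    Lin (H52.nElt D (D.simple i.val) t) (C.W.sigma i) := by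
  have h := C.hC.nElt_simple (F := F) i.isLt (Units.mk0 t ht)
  rw [Units.val_mk0] at h
  rw [← h]
  have hd : Lin (H52.dgR D fun s => (Units.mk0 t ht) ^ C.T.co s i.val) 1 := by
    have hχ : H52.IsChar D fun s => (Units.mk0 t ht) ^ C.T.co s i.val := by
      have := C.hC.isChar_prod (fun j => if j = i.val then Units.mk0 t ht else 1)
      convert this using 1
      funext s
      rw [Finset.prod_eq_single i.val, if_pos rfl]
      · intro j _ hj; rw [if_neg hj, one_zpow]
      · intro h; exact absurd (Finset.mem_range.2 i.isLt) h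
    exact fun s => ⟨_, fun u => C.hC.dgR_conj_rt hχ s.isLt u⟩
  have := lin_mul (lin_mul hd (lin_sigma C i)) (lin_inv hd)
  simpa using this

/-- An element of `N` acts linearly by its permutation. -/
theorem lin_of_acts {g : ↥(D.group F)} (hg : g ∈ (H53.grpSys C.W F).N)
    {π : Equiv.Perm (Fin D.nroots)} (hπ : (H53.grpSys C.W F).Acts g π) :
    Lin (g : GL D.Idx F) π := by
  obtain ⟨L, rfl⟩ := C.exists_wperm hπ.1
  have hh : g * (C.nwG (F := F) L)⁻¹ ∈ (H53.grpSys C.W F).H := by
    refine mem_H_of_acts_one C.axioms C.sep (mul_mem hg (inv_mem (C.nwG_mem_N L))) ?_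
    simpa using acts_mul hπ (acts_inv (C.nwG_acts L))
  have h1 := lin_diag C ((H53.mem_diag_iff C.hC C.W _).2 hh)
  have h2 : ∀ L : List (Fin D.rank), Lin (H54.Ctx.nw D F L) (C.wperm L) := by
    intro L
    induction L with
    | nil => rw [H54.Ctx.nw_nil, C.wperm_nil]; exact lin_one
    | cons i L ih =>
      rw [H54.Ctx.nw_cons, C.wperm_cons]
      have e : H53.nGL D (D.simple i.val) (1 : F) =
          H52.nElt D (D.simple i.val) (1 : F) :=
        Units.ext (by rw [H53.coe_nGL C.hC, C.hC.coe_nElt])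
      rw [e]
      exact lin_mul (lin_sigma C i) ih
  have := lin_mul h1 (h2 L)
  rwa [← C.coe_nwG, ← Subgroup.coe_mul, inv_mul_cancel_right, one_mul] at this

include C in
theorem hElt_conj {r s : ℕ} (hr : r < D.nroots) (hs : s < D.nroots) (c : Fˣ) (t : F) :
    H52.hElt D r (c : F) * H52.rt D s t * (H52.hElt D r (c : F))⁻¹ =
      H52.rt D s (((c ^ H52.pairInt D r s : Fˣ) : F) * t) := by
  rw [C.hC.hElt_eq_torus hr, C.hC.torus_conj_rt _ hs]
  congr 3
  rw [C.hC.pairInt_eq_sum, Finset.sum_range]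
  have : ∀ i : Fin D.rank, (c ^ H52.crt D r i.val) ^ D.cartan i.val s =
      c ^ (H52.crt D r i.val * D.cartan i.val s) := fun i => (zpow_mul _ _ _).symm
  rw [Finset.prod_congr rfl fun i _ => this i]
  generalize (Finset.univ : Finset (Fin D.rank)) = S
  classical
  induction S using Finset.induction_on with
  | empty => simp
  | insert a S ha ih => rw [Finset.sum_insert ha, Finset.prod_insert ha, zpow_add, ih]

theorem mem_N_iff (g : ↥(D.group F)) :
    g ∈ (H53.grpSys C.W F).N ↔ (g : GL D.Idx F) ∈ D.monomialSubgroup F := by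
  let K : H52.BNData D C.T := ⟨C.hC, C.hok, C.W⟩
  rw [← K.map_N]
  exact ⟨fun h => ⟨g, h, rfl⟩, fun ⟨b, hb, e⟩ => Subtype.ext e ▸ hb⟩

include C in
theorem hElt_monomial {r : ℕ} (hr : r < D.nroots) (c : Fˣ) :
    H52.hElt D r (c : F) ∈ D.monomialSubgroup F :=
  (le_sup_left : D.diagonalSubgroup F ≤ D.monomialSubgroup F) (by
    rw [C.hC.diagonalSubgroup_eq]
    exact ⟨_, (C.hC.hElt_eq_torus hr c).symm⟩)

include C in
theorem nElt_monomial {r : ℕ} (hr : r < D.nroots) (c : Fˣ) :
    H52.nElt D r (c : F) ∈ D.monomialSubgroup F := by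
  have h : H52.hElt D r (c : F) * H52.nElt D r (1 : F) = H52.nElt D r (c : F) := by
    rw [H52.Checked.hElt_eq, ← C.hC.nElt_inv hr, inv_mul_cancel_right]
  rw [← h]
  exact mul_mem (hElt_monomial C hr c) (C.hC.nElt_mem hr)

include C in
theorem conj_step {r s k : ℕ} {m : ℤ} (hr : r < D.nroots) (hs : s < D.nroots)
    (hk : k < D.nroots) (hrs : s ≠ r) (hneg : s ≠ D.neg r) (hkr : k ≠ r)
    (hkn : k ≠ D.neg r) (hw : D.commTerms r s = [(k, m, 1, 1)])
    (hw' : D.commTerms r k = []) (t u : F) :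
    ∃ e : F, e = -((m : F)) * (-1) ∧ H52.rt D r t * H52.rt D s u *
      (H52.rt D r t)⁻¹ = H52.rt D s u * H52.rt D k (e * (t * u)) := by
  refine ⟨_, rfl, ?_⟩
  have h := C.hC.comm_rt hr hs hrs hneg t u
  have e : H52.wordRt D (D.commWord F r s t u) =
      H52.rt D k (-((m : F) * (t * u))) := by
    simp [H52.wordRt, ChevalleyDatum.commWord, hw, mul_assoc]
  rw [e] at h
  have h' := C.hC.comm_rt hr hk hkr hkn t ((m : F) * (t * u))
  rw [show H52.wordRt D (D.commWord F r k t ((m : F) * (t * u))) = 1 by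
    simp [H52.wordRt, ChevalleyDatum.commWord, hw'], mul_one] at h'
  rw [mul_inv_eq_iff_eq_mul, show -(m : F) * -1 * (t * u) = (m : F) * (t * u) by ring,
    mul_assoc, h', ← mul_assoc, h, mul_assoc (_ * _), C.hC.rt_mul, neg_add_cancel, C.hC.rt_zero,
    mul_one]

theorem exists_sq_sub [Fintype F] (h2 : (2 : F) ≠ 0) (c l : F) (hc : c ≠ 0) :
    ∃ a b : F, a ^ 2 - c * b ^ 2 = l := by
  have hodd : Fintype.card F % 2 = 1 :=
    FiniteField.odd_card_of_char_ne_two fun h => h2 (by
      have : CharP F 2 := ringChar.of_eq h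
      exact CharTwo.two_eq_zero)
  obtain ⟨a, b, hab⟩ := FiniteField.exists_root_sum_quadratic
    (f := (Polynomial.X ^ 2 : Polynomial F))
    (g := Polynomial.C (-c) * Polynomial.X ^ 2 - Polynomial.C l)
    (Polynomial.degree_X_pow 2) (by
      have hd := Polynomial.degree_C_mul_X_pow 2 (neg_ne_zero.2 hc)
      have hl : (Polynomial.C l).degree < (Polynomial.C (-c) * Polynomial.X ^ 2).degree := by
        rw [hd]
        exact lt_of_le_of_lt Polynomial.degree_C_le (by exact_mod_cast (show (0 : ℕ) < 2 by norm_num))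
      rw [Polynomial.degree_sub_eq_left_of_degree_lt hl, hd]
      rfl) hodd
  refine ⟨a, b, ?_⟩
  simp only [Polynomial.eval_pow, Polynomial.eval_X, Polynomial.eval_sub, Polynomial.eval_mul,
    Polynomial.eval_C] at hab
  linear_combination hab

end H13.InvT
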